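import Mathlib
import Cfsg.Agent.Lib.ThompsonNPC.Thompson
import Cfsg.Agent.Lib.ThompsonNPC.ZJ
import Cfsg.Agent.Lib.Fusion4.AlperinTame
import Cfsg.Agent.Lib.FusionMod.Basic
import Cfsg.Agent.Lib.Qd.Involved
/-!
Glauberman's theorem: in a `Qd(p)`-free group, `p` odd, `N(Z(J(P)))` controls fusion in `P`.

The induction is on the order of the group. For `O_p(G) = 1` all local subgroups are proper and
one climbs through the normalisers of `Z(J)`. For `O_p(G) = H ≠ 1` either `G` is constrained, and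
the `ZJ` theorem applies modulo `O_{p'}(G)`, or Alperin's steps factor through `P C(H)`,
`N(H C_P(H))` and larger subgroups of `P`.
-/

set_option autoImplicit false

namespace Cfsg.Agent.Lib.ThompsonNPC

open Subgroup
open Cfsg.Agent.Lib
open Cfsg.Agent.Lib.Fusion4 (rc mem_rc rc_mono rc_inf rc_rc rc_of_mem_normalizer card_rc rc_normalizer Chain IsTame)
open scoped commutatorElement

universe u

variable {p : ℕ} [Fact p.Prime]

/-- `n` and `g` conjugate every element of `A` alike. -/
def Agrees {G : Type*} [Group G] (n g : G) (A : Set G) : Prop :=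
  ∀ a ∈ A, n⁻¹ * a * n = g⁻¹ * a * g

/-- `g` acts on `A` as an element of `N`. -/
def AgreesIn {G : Type*} [Group G] (N : Subgroup G) (g : G) (A : Set G) : Prop :=
  ∃ n ∈ N, Agrees n g A

variable {G : Type u} [Group G]

theorem AgreesIn.comp {N : Subgroup G} {g h : G} {A : Set G} (h1 : AgreesIn N g A)
    (h2 : AgreesIn N h ((fun a => g⁻¹ * a * g) '' A)) : AgreesIn N (g * h) A := by
  obtain ⟨n, hn, hn'⟩ := h1
  obtain ⟨m, hm, hm'⟩ := h2
  refine ⟨n * m, mul_mem hn hm, fun a ha => ?_⟩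
  have := hm' _ ⟨a, ha, rfl⟩
  calc (n * m)⁻¹ * a * (n * m) = m⁻¹ * (n⁻¹ * a * n) * m := by group
    _ = m⁻¹ * (g⁻¹ * a * g) * m := by rw [hn' a ha]
    _ = h⁻¹ * (g⁻¹ * a * g) * h := this
    _ = _ := by group

theorem AgreesIn.mono {N : Subgroup G} {g : G} {A B : Set G} (h : AgreesIn N g A) (hB : B ⊆ A) :
    AgreesIn N g B :=
  let ⟨n, hn, hn'⟩ := h
  ⟨n, hn, fun a ha => hn' a (hB ha)⟩

/-- The normaliser of `Z(J(P))`. -/
abbrev zjNormalizer (p : ℕ) (P : Subgroup G) : Subgroup G :=
  normalizer (Cfsg.centerThompsonOf p P : Set G)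

theorem le_zjNormalizer (P : Subgroup G) : P ≤ zjNormalizer p P :=
  le_normalizer.trans (OddStability.normalizer_le_normalizer_centerThompsonOf P)

/-- Fusion in `P` is controlled by `N(Z(J(P)))`. -/
def Controls (p : ℕ) (G : Type u) [Group G] : Prop :=
  ∀ (P : Sylow p G) (A : Set G) (g : G), A ⊆ (P : Set G) →
    (fun a => g⁻¹ * a * g) '' A ⊆ (P : Set G) → AgreesIn (zjNormalizer p (P : Subgroup G)) g A

/-! ### involvement -/

theorem exists_hom_of_involves {X : Type*} [Group X] {Y : Type*} [Group Y] (h : Cfsg.Involves X Y) :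
    ∃ (K : Subgroup Y) (f : K →* X), Function.Surjective f := by
  obtain ⟨K, R, hn, ⟨e⟩⟩ := h
  exact ⟨K, e.toMonoidHom.comp (QuotientGroup.mk' _),
    e.surjective.comp (QuotientGroup.mk'_surjective _)⟩

theorem involves_of_hom_surjective {X : Type*} [Group X] {Y : Type*} [Group Y] (K : Subgroup Y)
    (f : K →* X) (hf : Function.Surjective f) : Cfsg.Involves X Y := by
  have h : (f.ker.map K.subtype).subgroupOf K = f.ker :=
    comap_map_eq_self_of_injective K.subtype_injective _
  have hn : ((f.ker.map K.subtype).subgroupOf K).Normal := by rw [h]; infer_instance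
  exact ⟨K, f.ker.map K.subtype, hn,
    ⟨(QuotientGroup.quotientMulEquivOfEq h).trans
      (QuotientGroup.quotientKerEquivOfSurjective f hf)⟩⟩

theorem not_involves_subgroup {X : Type*} [Group X] {Y : Type*} [Group Y] (M : Subgroup Y)
    (h : ¬ Cfsg.Involves X Y) : ¬ Cfsg.Involves X M := fun hM => by
  obtain ⟨K, f, hf⟩ := exists_hom_of_involves hM
  refine h (involves_of_hom_surjective (K.map M.subtype)
    (f.comp (K.equivMapOfInjective M.subtype M.subtype_injective).symm.toMonoidHom) ?_)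
  exact hf.comp (MulEquiv.surjective _)

theorem not_involves_quotient {X : Type*} [Group X] {Y : Type*} [Group Y] (N : Subgroup Y)
    [N.Normal] (h : ¬ Cfsg.Involves X Y) : ¬ Cfsg.Involves X (Y ⧸ N) := fun hQ => by
  obtain ⟨K, f, hf⟩ := exists_hom_of_involves hQ
  refine h (involves_of_hom_surjective (K.comap (QuotientGroup.mk' N))
    (f.comp ((QuotientGroup.mk' N).subgroupComap K)) ?_)
  exact hf.comp ((QuotientGroup.mk' N).subgroupComap_surjective_of_surjective K
    (QuotientGroup.mk'_surjective N))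

/-! ### stability -/

theorem isStableAt_of_not_involves [Finite G] (hp : p ≠ 2)
    (h : ¬ Cfsg.Involves (Cfsg.qd p) G) (S : Subgroup G) : IsStableAt p S := by
  intro W hW hWp A hA hAS hWA
  rintro _ ⟨a, ha, rfl⟩
  have hN : normalizer (W : Set G) = ⊤ := normalizer_eq_top_iff.2 hW
  have hg : a ∈ normalizer (W : Set G) := hN ▸ mem_top a
  have hq : ⁅⁅W, zpowers a⁆, zpowers a⁆ = ⊥ := by
    have h1 : ⁅W, zpowers a⁆ ≤ A := commutator_le.2 fun w hw z hz => by
      have hzA : z ∈ A := (zpowers_le.2 ha) hz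
      rw [commutatorElement_def]
      exact mul_mem ((mem_normalizer_iff.1 (hWA hw) z).1 hzA) (inv_mem hzA)
    refine _root_.eq_bot_iff.2 (commutator_le.2 fun x hx z hz => ?_)
    rw [mem_bot, commutatorElement_eq_one_iff_mul_comm]
    exact congrArg Subtype.val (mul_comm' (⟨x, h1 hx⟩ : A) ⟨z, (zpowers_le.2 ha) hz⟩)
  have hst := Qd.isNormalizerPStable_of_not_involves hp h W hWp a hg hq
  set N := normalizer (W : Set G)
  set C := centralizer (W : Set G)
  let F : N ⧸ C.subgroupOf N →* G ⧸ C := QuotientGroup.lift (C.subgroupOf N)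
    ((QuotientGroup.mk' C).comp N.subtype) fun x hx => (QuotientGroup.eq_one_iff _).2 hx
  have hF : Function.Surjective F := by
    intro q
    obtain ⟨g, rfl⟩ := QuotientGroup.mk'_surjective C q
    exact ⟨QuotientGroup.mk (⟨g, hN ▸ mem_top g⟩ : N), rfl⟩
  refine PSolvable.le_pCore
    (hN := (inferInstance : (Cfsg.pCore p (N ⧸ C.subgroupOf N)).Normal).map F hF)
    (PSolvable.pCore_isPGroup.map F) ⟨_, hst, rfl⟩

/-! ### transfer to and from subgroups -/

theorem centerThompsonOf_map_subtype (M : Subgroup G) (S : Subgroup M) :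
    (Cfsg.centerThompsonOf p S).map M.subtype = Cfsg.centerThompsonOf p (S.map M.subtype) :=
  OddStability.centerThompsonOf_map_of_injOn M.subtype S M.subtype_injective.injOn

/-- Control inside a subgroup, read in the whole group. -/
theorem agreesIn_sub [Finite G] {M S : Subgroup G} (hM : Controls p M) (hS : IsPGroup p S)
    (hSM : S ≤ M) (hidx : ¬ p ∣ S.relIndex M) {A : Set G} {g : G} (hA : A ⊆ (S : Set G))
    (hg : g ∈ M) (hAg : (fun a => g⁻¹ * a * g) '' A ⊆ (S : Set G)) :
    AgreesIn (M ⊓ zjNormalizer p S) g A := by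
  set S' : Sylow p M := (IsPGroup.of_equiv hS (subgroupOfEquivOfLe hSM).symm).toSylow hidx with hS'
  have hcoe : (S' : Subgroup M) = S.subgroupOf M := rfl
  obtain ⟨n, hn, hn'⟩ := hM S' (M.subtype ⁻¹' A) ⟨g, hg⟩
    (fun a ha => mem_subgroupOf.2 (hA ha))
    (by rintro _ ⟨a, ha, rfl⟩; exact mem_subgroupOf.2 (hAg ⟨a, ha, rfl⟩))
  refine ⟨n, mem_inf.2 ⟨n.2, ?_⟩, fun a ha => ?_⟩
  · have h1 : (n : G) ∈ (normalizer (Cfsg.centerThompsonOf p (S' : Subgroup M) : Set M)).map M.subtype :=
      mem_map_of_mem _ hn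
    have h2 := le_normalizer_map M.subtype h1
    rwa [centerThompsonOf_map_subtype, hcoe, map_subgroupOf_eq_of_le hSM] at h2
  · exact congrArg Subtype.val (hn' ⟨a, hSM (hA ha)⟩ ha)

theorem agreesIn_of_le_sub [Finite G] {M : Subgroup G} (P : Sylow p G) (hM : Controls p M)
    (hPM : (P : Subgroup G) ≤ M) {A : Set G} {g : G} (hA : A ⊆ (P : Set G))
    (hg : g ∈ M) (hAg : (fun a => g⁻¹ * a * g) '' A ⊆ (P : Set G)) :
    AgreesIn (zjNormalizer p (P : Subgroup G)) g A := by
  have hidx : ¬ p ∣ (P : Subgroup G).relIndex M := fun h =>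
    P.not_dvd_index (h.trans ⟨_, (relIndex_mul_index hPM).symm⟩)
  obtain ⟨n, hn, hn'⟩ := agreesIn_sub hM P.2 hPM hidx hA hg hAg
  exact ⟨n, (mem_inf.1 hn).2, hn'⟩

/-! ### reduction to steps -/

/-- The step at `T` is induced by `N(Z(J(P)))`. -/
def StepOK (P : Sylow p G) (T : Subgroup G) : Prop :=
  ∀ x ∈ normalizer (T : Set G), AgreesIn (zjNormalizer p (P : Subgroup G)) x (T : Set G)

theorem agreesIn_of_chain [Finite G] {P : Sylow p G} {A : Set G} {g : G} (h : Chain P A g) :
    ∀ k, k ≤ Nat.card (closure A) → (∀ Q : Sylow p G, IsTame p (P : Subgroup G) Q →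
      k ≤ Nat.card ((P : Subgroup G) ⊓ (Q : Subgroup G) : Subgroup G) →
      StepOK P ((P : Subgroup G) ⊓ (Q : Subgroup G))) →
    AgreesIn (zjNormalizer p (P : Subgroup G)) g A := by
  induction h with
  | nil A => exact fun k _ _ => ⟨1, one_mem _, fun a _ => rfl⟩
  | @cons A g Q x hQ hx hxp hA _ ih =>
    intro k hk hstep
    refine AgreesIn.comp ((hstep Q hQ (hk.trans (card_le_of_le ((closure_le _).2 hA))) x hx).mono hA)
      (ih k ?_ hstep)
    have e : closure ((fun a => x⁻¹ * a * x) '' A) = rc x (closure A) := by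
      have h1 : (fun a : G => x⁻¹ * a * x) = (MulAut.conj x⁻¹).toMonoidHom := by
        funext a; simp
      rw [h1, ← MonoidHom.map_closure]
      rfl
    rwa [e, card_rc]

theorem agreesIn_of_steps [Finite G] (P : Sylow p G) {A : Set G} {g : G} (hA : A ⊆ (P : Set G))
    (hAg : (fun a => g⁻¹ * a * g) '' A ⊆ (P : Set G)) (k : ℕ) (hk : k ≤ Nat.card (closure A))
    (hstep : ∀ Q : Sylow p G, IsTame p (P : Subgroup G) Q →
      k ≤ Nat.card ((P : Subgroup G) ⊓ (Q : Subgroup G) : Subgroup G) →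
      StepOK P ((P : Subgroup G) ⊓ (Q : Subgroup G))) :
    AgreesIn (zjNormalizer p (P : Subgroup G)) g A :=
  agreesIn_of_chain (Fusion4.chain_of_conj P A g hA hAg) k hk hstep

/-! ### the constrained case -/

/-- The centraliser of a normal `p`-subgroup `H` with `C_P(H) ≤ H` lies in `O_{p'}(G) H`. -/
theorem centralizer_le_pPrimeCore_sup [Finite G] (P : Sylow p G) (H : Subgroup G) [H.Normal]
    (hc : (P : Subgroup G) ⊓ centralizer (H : Set G) ≤ H) :
    centralizer (H : Set G) ≤ Cfsg.pPrimeCore p G ⊔ H := by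
  have hpp : p.Prime := Fact.out
  set C := centralizer (H : Set G) with hC
  set R := Cfsg.pPrimeCore p G with hR
  set S : Sylow p C := FusionMod.sylowInf P C with hS
  have hScen : normalizer ((S : Subgroup C) : Set C) ≤ centralizer ((S : Subgroup C) : Set C) := by
    intro c _
    rw [mem_centralizer_iff]
    intro s hs
    have h1 : (s : G) ∈ (P : Subgroup G) ⊓ C := hs
    exact Subtype.ext (mem_centralizer_iff.1 c.2 s (hc h1))
  have hcompl := MonoidHom.ker_transferSylow_isComplement' S hScen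
  set N := (MonoidHom.transferSylow S hScen).ker
  have hN : N ≤ Cfsg.pPrimeCore p C := PSolvable.le_pPrimeCore
    ((hpp.coprime_iff_not_dvd.2 (hcompl.index_eq_card ▸ S.not_dvd_index)).symm)
  have hNR : (Cfsg.pPrimeCore p C).map C.subtype ≤ R := by
    have : (Cfsg.pPrimeCore p C).Characteristic := PSolvable.pPrimeCore_characteristic
    refine PSolvable.le_pPrimeCore ?_
    rw [card_map_of_injective C.subtype_injective]
    exact PSolvable.pPrimeCore_coprime
  intro c hc'
  obtain ⟨⟨n, s⟩, hns⟩ := (hcompl).2 (⟨c, hc'⟩ : C)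
  have hns' := congrArg Subtype.val hns
  simp only [Subgroup.coe_mul] at hns'
  rw [← hns']
  exact mul_mem (mem_sup_left (hNR (mem_map_of_mem _ (hN n.2))))
    (mem_sup_right (hc s.2))

/-- Fusion modulo a normal `p'`-subgroup `R` with `G = R N₀`. -/
theorem agreesIn_of_normal_compl [Finite G] (P : Sylow p G) (R N₀ : Subgroup G) [R.Normal]
    (hRp : ¬ p ∣ Nat.card R) (hPN₀ : (P : Subgroup G) ≤ N₀) {A : Set G} {g y : G}
    (hA : A ⊆ (P : Set G)) (hAg : (fun a => g⁻¹ * a * g) '' A ⊆ (P : Set G))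
    (hy : y ∈ N₀) (hgy : g * y⁻¹ ∈ R) : AgreesIn N₀ g A := by
  classical
  have hpp : p.Prime := Fact.out
  set r := g * y⁻¹ with hr
  have hrR : r ∈ R := hgy
  set π := QuotientGroup.mk' R with hπ
  set B := closure A with hB
  have hBP : B ≤ (P : Subgroup G) := (closure_le _).2 hA
  set B' := rc r B with hB'
  have hBgP : rc g B ≤ (P : Subgroup G) := by
    rw [hB, rc, MonoidHom.map_closure, closure_le]
    rintro _ ⟨a, ha, rfl⟩
    have := hAg ⟨a, ha, rfl⟩
    simpa using this
  have hB'N : B' ≤ N₀ := by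
    intro z hz
    have h2 : y⁻¹ * z * y ∈ rc g B := by
      rw [mem_rc]
      rw [hB', mem_rc] at hz
      convert hz using 1
      rw [hr]
      group
    have h3 := mul_mem (mul_mem hy (hPN₀ (hBgP h2))) (inv_mem hy)
    simpa [mul_assoc] using h3
  set M := (R ⊔ B) ⊓ N₀ with hM
  have hBM : B ≤ M := le_inf le_sup_right (hBP.trans hPN₀)
  have hB'M : B' ≤ M := by
    refine le_inf ?_ hB'N
    intro z hz
    rw [hB', mem_rc] at hz
    have : z = r⁻¹ * (r * z * r⁻¹) * r := by group
    rw [this]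
    exact mul_mem (mul_mem (mem_sup_left (inv_mem hrR)) (mem_sup_right hz)) (mem_sup_left hrR)
  have hBp : IsPGroup p B := P.2.to_le hBP
  have hinf : B ⊓ R = ⊥ := PSolvable.inf_eq_bot_of_isPGroup_of_coprime hBp
    (hpp.coprime_iff_not_dvd.2 hRp).symm
  have hidx : ¬ p ∣ B.relIndex M := by
    intro hd
    apply hRp
    refine hd.trans ((Nat.mul_dvd_mul_iff_left (Nat.card_pos (α := B))).1 ?_)
    have e1 := relIndex_mul_relIndex ⊥ B M bot_le hBM
    rw [relIndex_bot_left, relIndex_bot_left] at e1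
    rw [e1]
    have e2 := relIndex_mul_relIndex ⊥ R (R ⊔ B) bot_le le_sup_left
    rw [relIndex_bot_left, relIndex_bot_left, relIndex_sup_left, ← inf_relIndex_right,
      inf_comm, hinf, relIndex_bot_left] at e2
    rw [Nat.mul_comm, e2]
    exact card_dvd_of_le inf_le_left
  let S₁ : Sylow p M := (IsPGroup.of_equiv hBp (subgroupOfEquivOfLe hBM).symm).toSylow hidx
  obtain ⟨S₂, hS₂⟩ := (IsPGroup.of_equiv (hBp.map (MulAut.conj r⁻¹).toMonoidHom)
    (subgroupOfEquivOfLe hB'M).symm).exists_le_sylow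
  obtain ⟨k, hk⟩ := MulAction.exists_smul_eq M S₁ S₂
  obtain ⟨r', hr', b, hb, hbr⟩ := mem_sup_of_normal_left.1 (mem_inf.1 k.2).1
  have hr'N : r' ∈ N₀ := by
    have : r' = (k : G) * b⁻¹ := by rw [← hbr, mul_inv_cancel_right]
    rw [this]
    exact mul_mem (mem_inf.1 k.2).2 (inv_mem (hPN₀ (hBP hb)))
  have key : ∀ a ∈ A, r'⁻¹⁻¹ * a * r'⁻¹ = r⁻¹ * a * r := by
    intro a ha
    have haB : a ∈ B := subset_closure ha
    have h1 : r⁻¹ * a * r ∈ B' := by
      rw [hB', mem_rc]; simpa [mul_assoc] using haB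
    have h2 : (⟨r⁻¹ * a * r, hB'M h1⟩ : M) ∈ (S₂ : Subgroup M) := hS₂ (mem_subgroupOf.2 h1)
    rw [← hk, Sylow.coe_subgroup_smul, mem_pointwise_smul_iff_inv_smul_mem,
      show (S₁ : Subgroup M) = B.subgroupOf M from rfl, mem_subgroupOf] at h2
    simp [MulAut.smul_def] at h2
    -- `h2 : k⁻¹ * (r⁻¹ a r) * k ∈ B`
    have h3 : r'⁻¹ * (r⁻¹ * a * r) * r' ∈ B := by
      have := mul_mem (mul_mem hb h2) (inv_mem hb)
      convert this using 1
      rw [← hbr]
      group
    have h4 : (r'⁻¹ * (r⁻¹ * a * r) * r') * a⁻¹ ∈ B ⊓ R := by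
      refine mem_inf.2 ⟨mul_mem h3 (inv_mem haB), ?_⟩
      rw [← QuotientGroup.eq_one_iff, ← QuotientGroup.mk'_apply, ← hπ]
      simp only [map_mul, map_inv, show π r = 1 from (QuotientGroup.eq_one_iff r).2 hrR,
        show π r' = 1 from (QuotientGroup.eq_one_iff r').2 hr']
      group
    rw [hinf, mem_bot, mul_inv_eq_one] at h4
    calc r'⁻¹⁻¹ * a * r'⁻¹ = r'⁻¹⁻¹ * (r'⁻¹ * (r⁻¹ * a * r) * r') * r'⁻¹ := by rw [h4]
      _ = _ := by group
  refine ⟨r'⁻¹ * y, mul_mem (inv_mem hr'N) hy, fun a ha => ?_⟩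
  calc (r'⁻¹ * y)⁻¹ * a * (r'⁻¹ * y) = y⁻¹ * (r'⁻¹⁻¹ * a * r'⁻¹) * y := by group
    _ = y⁻¹ * (r⁻¹ * a * r) * y := by rw [key a ha]
    _ = g⁻¹ * a * g := by rw [hr]; group


theorem controls_of_constrained [Finite G] (hp : p ≠ 2)
    (hst : ∀ S : Subgroup (G ⧸ Cfsg.pPrimeCore p G), IsStableAt p S) (P : Sylow p G)
    (hc : (P : Subgroup G) ⊓ centralizer (Cfsg.pCore p G : Set G) ≤ Cfsg.pCore p G)
    {A : Set G} {g : G} (hA : A ⊆ (P : Set G))
    (hAg : (fun a => g⁻¹ * a * g) '' A ⊆ (P : Set G)) :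
    AgreesIn (zjNormalizer p (P : Subgroup G)) g A := by
  classical
  have hpp : p.Prime := Fact.out
  set H := Cfsg.pCore p G with hH
  set C := centralizer (H : Set G) with hC
  set R := Cfsg.pPrimeCore p G with hR
  have hRp : ¬ p ∣ Nat.card R := PSolvable.pPrimeCore_not_dvd
  have hCH : C ≤ R ⊔ H := centralizer_le_pPrimeCore_sup P H hc
  set π := QuotientGroup.mk' R with hπ
  have hπs : Function.Surjective π := QuotientGroup.mk'_surjective R
  set Pb : Sylow p (G ⧸ R) := P.mapSurjective hπs with hPb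
  have hPbc : (Pb : Subgroup (G ⧸ R)) = (P : Subgroup G).map π := rfl
  have hHb : H.map π ≤ Cfsg.pCore p (G ⧸ R) := PSolvable.le_pCore
    (hN := (inferInstance : H.Normal).map π hπs) (PSolvable.pCore_isPGroup.map π)
  have hcen : centralizer (Cfsg.pCore p (G ⧸ R) : Set (G ⧸ R)) ≤ Cfsg.pCore p (G ⧸ R) := by
    intro q hq
    obtain ⟨c, rfl⟩ := hπs q
    refine hHb ?_
    have hcC : c ∈ C := by
      rw [hC, mem_centralizer_iff]
      intro h hh
      have h1 := mem_centralizer_iff.1 hq _ (hHb (mem_map_of_mem π hh))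
      have h2 : c * h * c⁻¹ * h⁻¹ ∈ H ⊓ R := by
        refine mem_inf.2 ⟨mul_mem ((inferInstance : H.Normal).conj_mem h hh c) (inv_mem hh), ?_⟩
        rw [← QuotientGroup.eq_one_iff, ← QuotientGroup.mk'_apply, map_mul, map_mul, map_mul,
          map_inv, map_inv, ← hπ, ← h1]
        group
      rw [PSolvable.inf_eq_bot_of_isPGroup_of_coprime PSolvable.pCore_isPGroup
        (hpp.coprime_iff_not_dvd.2 hRp).symm, mem_bot, mul_inv_eq_one, mul_inv_eq_iff_eq_mul] at h2
      exact h2.symm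
    obtain ⟨r, hr, h, hh, rfl⟩ := mem_sup_of_normal_left.1 (hCH hcC)
    rw [map_mul, show π r = 1 from (QuotientGroup.eq_one_iff r).2 hr, one_mul]
    exact mem_map_of_mem π hh
  have hZn := centerThompsonOf_normal_of_stable hp Pb hcen
    (hst _)
  set W := Cfsg.centerThompsonOf p (P : Subgroup G) with hW
  have hWmap : W.map π = Cfsg.centerThompsonOf p (Pb : Subgroup (G ⧸ R)) := by
    refine OddStability.centerThompsonOf_map_of_injOn π _ fun x hx y hy h => ?_
    have h1 : x * y⁻¹ ∈ (P : Subgroup G) ⊓ R := mem_inf.2 ⟨mul_mem hx (inv_mem hy), by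
      rw [← QuotientGroup.eq_one_iff, ← QuotientGroup.mk'_apply, map_mul, map_inv, ← hπ, h,
        mul_inv_cancel]⟩
    rwa [PSolvable.inf_eq_bot_of_isPGroup_of_coprime P.2
      (hpp.coprime_iff_not_dvd.2 hRp).symm, mem_bot, mul_inv_eq_one] at h1
  set N₀ := zjNormalizer p (P : Subgroup G) with hN₀
  have hPN₀ : (P : Subgroup G) ≤ N₀ := le_zjNormalizer _
  have hN₀top : π g ∈ N₀.map π := by
    refine normalizer_map_le π hπs (by rw [QuotientGroup.ker_mk']; exact hRp)
      (P.2.to_le (OddStability.centerThompsonOf_le _)) ?_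
    rw [← hW, hWmap, normalizer_eq_top_iff.2 hZn]
    exact mem_top _
  obtain ⟨y, hy, hyg⟩ := hN₀top
  exact agreesIn_of_normal_compl P R N₀ hRp hPN₀ hA hAg hy (by
    rw [← QuotientGroup.eq_one_iff, ← QuotientGroup.mk'_apply, ← hπ, map_mul, map_inv, hyg,
      mul_inv_cancel])

/-! ### trivial `p`-core -/

theorem controls_local [Finite G] (P : Sylow p G) (hcore : Cfsg.pCore p G = ⊥)
    (IH : ∀ M : Subgroup G, M ≠ ⊤ → Controls p M) (X : Subgroup G) (hX : X ≠ ⊥)
    (hXP : X ≤ (P : Subgroup G))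
    (hidx : ¬ p ∣ ((P : Subgroup G) ⊓ normalizer (X : Set G)).relIndex (normalizer (X : Set G)))
    (A : Set G) (g : G) (hA : A ⊆ (((P : Subgroup G) ⊓ normalizer (X : Set G) : Subgroup G) : Set G))
    (hg : g ∈ normalizer (X : Set G))
    (hAg : (fun a => g⁻¹ * a * g) '' A ⊆
      (((P : Subgroup G) ⊓ normalizer (X : Set G) : Subgroup G) : Set G)) :
    AgreesIn (zjNormalizer p (P : Subgroup G)) g A := by
  classical
  induction hn : Nat.card (P : Subgroup G) -
      Nat.card ((P : Subgroup G) ⊓ normalizer (X : Set G) : Subgroup G)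
      using Nat.strong_induction_on generalizing X A g with
  | _ n ih =>
  subst hn
  set N := normalizer (X : Set G) with hN
  set S := (P : Subgroup G) ⊓ N with hS
  have hSp : IsPGroup p S := P.2.to_le inf_le_left
  have hXS : X ≤ S := le_inf hXP le_normalizer
  have hproper : ∀ Y : Subgroup G, Y ≠ ⊥ → IsPGroup p Y → normalizer (Y : Set G) ≠ ⊤ := by
    intro Y hY hYp h
    have hYn : Y.Normal := normalizer_eq_top_iff.1 h
    exact hY (le_bot_iff.1 (hcore ▸ PSolvable.le_pCore (hN := hYn) hYp))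
  obtain ⟨y, hy, hy'⟩ := agreesIn_sub (IH N (hproper X hX (P.2.to_le hXP))) hSp inf_le_right hidx
    hA hg hAg
  rcases eq_or_lt_of_le (inf_le_left : S ≤ P) with heq | hlt
  · exact ⟨y, heq ▸ (mem_inf.1 hy).2, hy'⟩
  set V := Cfsg.centerThompsonOf p S with hV
  have hV1 : V ≠ ⊥ := center_ne_bot (hSp.to_le (Thompson.thompsonSubgroupOf_le p S))
    (Thompson.thompsonSubgroupOf_ne_bot (hSp.card_eq_or_dvd.resolve_left fun h =>
      hX (le_bot_iff.1 (hXS.trans (eq_bot_of_card_eq _ h).le))))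
  have hVP : V ≤ (P : Subgroup G) := (OddStability.centerThompsonOf_le S).trans inf_le_left
  set S₁ := (P : Subgroup G) ⊓ normalizer (V : Set G) with hS₁
  have hSS₁ : S < S₁ := lt_of_lt_of_le (Transfer.lt_inf_normalizer P.2 hlt)
    (inf_le_inf_left _ (OddStability.normalizer_le_normalizer_centerThompsonOf S))
  obtain ⟨S₂, hS₂p, hS₁₂, hS₂N, hS₂idx⟩ := Fusion4.exists_sylow_ge (P.2.to_le inf_le_left)
    (inf_le_right : S₁ ≤ normalizer (V : Set G))
  obtain ⟨R, hR⟩ := hS₂p.exists_le_sylow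
  obtain ⟨z₀, hz₀⟩ := MulAction.exists_smul_eq G R P
  set z := z₀⁻¹ with hz
  have hzR : rc z (R : Subgroup G) = P := by
    rw [← hz₀, ← Fusion4.coe_inv_smul, hz, inv_inv]
  -- move `N_P(V)` inside `P`
  obtain ⟨w, hw, hw'⟩ : AgreesIn (zjNormalizer p (P : Subgroup G)) z (S₁ : Set G) := by
    refine agreesIn_of_steps P (fun a ha => (mem_inf.1 ha).1) ?_ (Nat.card S₁)
      (le_of_eq (by rw [closure_eq])) fun Q hQ hk x hx => ?_
    · rintro _ ⟨a, ha, rfl⟩
      show z⁻¹ * a * z ∈ (P : Subgroup G)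
      rw [← hzR]
      exact mem_rc.2 (by simpa [mul_assoc] using hR (hS₁₂ ha))
    · set T := (P : Subgroup G) ⊓ (Q : Subgroup G) with hT
      have hTN : T ≤ (P : Subgroup G) ⊓ normalizer (T : Set G) := le_inf inf_le_left le_normalizer
      have h1 := Set.ncard_lt_ncard hSS₁ (Set.toFinite _)
      have h2 := card_le_of_le hTN
      have h3 := card_le_of_le (inf_le_left : (P : Subgroup G) ⊓ normalizer (T : Set G) ≤ P)
      refine ih _ ?_ T ?_ inf_le_left hQ.1 (T : Set G) x (fun a ha => hTN ha) hx ?_ rfl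
      · have : Nat.card S < Nat.card S₁ := h1
        omega
      · intro h
        rw [h, card_bot] at hk
        have := Nat.card_pos (α := S)
        have : Nat.card S < Nat.card S₁ := h1
        omega
      · rintro _ ⟨a, ha, rfl⟩
        exact hTN ((mem_normalizer_iff''.1 hx a).1 ha)
  have hwS₁ : ∀ a ∈ S₁, w⁻¹ * a * w = z⁻¹ * a * z := hw'
  have hrcw : ∀ U ≤ S₁, rc w U = rc z U := by
    intro U hU
    ext t
    constructor
    · rintro ⟨a, ha, rfl⟩
      exact ⟨a, ha, by simpa using (hwS₁ a (hU ha)).symm⟩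
    · rintro ⟨a, ha, rfl⟩
      exact ⟨a, ha, by simpa using hwS₁ a (hU ha)⟩
  set V' := rc w V with hV'
  have hV'z : V' = rc z V := hrcw V (le_inf hVP le_normalizer)
  have hS₂' : rc z S₂ ≤ (P : Subgroup G) ⊓ normalizer (V' : Set G) := by
    refine le_inf (hzR ▸ rc_mono hR) ?_
    rw [hV'z, ← rc_normalizer]
    exact rc_mono hS₂N
  have hidx' : ¬ p ∣ ((P : Subgroup G) ⊓ normalizer (V' : Set G)).relIndex
      (normalizer (V' : Set G)) := by
    intro h
    refine hS₂idx ?_
    rw [← Fusion4.relIndex_rc z S₂, rc_normalizer, ← hV'z]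
    exact h.trans (relIndex_dvd_of_le_left _ hS₂')
  have hbig : Nat.card S < Nat.card ((P : Subgroup G) ⊓ normalizer (V' : Set G) : Subgroup G) := by
    have h1 : Nat.card S < Nat.card S₁ := Set.ncard_lt_ncard hSS₁ (Set.toFinite _)
    have h2 := card_le_of_le ((rc_mono hS₁₂).trans hS₂')
    rw [card_rc] at h2
    exact h1.trans_le h2
  have hAS₁ : ∀ a ∈ A, a ∈ S₁ := fun a ha => hSS₁.le (hA ha)
  have himg : ∀ a, a ∈ S₁ → w⁻¹ * a * w ∈ (P : Subgroup G) ⊓ normalizer (V' : Set G) := fun a ha =>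
    hS₂' (rc_mono hS₁₂ (hrcw S₁ le_rfl ▸ mem_rc.2 (by simpa [mul_assoc] using ha)))
  have hcard := card_le_of_le (inf_le_left : (P : Subgroup G) ⊓ normalizer (V' : Set G) ≤ P)
  obtain ⟨n, hn, hn'⟩ := ih _ (by omega) V'
    (fun h => hV1 (eq_bot_of_card_eq _ (by rw [← card_rc w V, ← hV', h, card_bot])))
    ((hV'z.le.trans (rc_mono ((le_inf hVP le_normalizer).trans hS₁₂))).trans
      (hS₂'.trans inf_le_left))
    hidx' ((fun a => w⁻¹ * a * w) '' A) (w⁻¹ * y * w)
    (by rintro _ ⟨a, ha, rfl⟩; exact himg a (hAS₁ a ha))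
    (by
      rw [hV', ← rc_normalizer, mem_rc]
      simpa [mul_assoc] using (mem_inf.1 hy).2)
    (by
      rintro _ ⟨_, ⟨a, ha, rfl⟩, rfl⟩
      have h := himg (y⁻¹ * a * y) (by rw [hy' a ha]; exact hSS₁.le (hAg ⟨a, ha, rfl⟩))
      rw [SetLike.mem_coe]
      convert h using 1
      group)
    rfl
  refine ⟨w * n * w⁻¹, mul_mem (mul_mem hw hn) (inv_mem hw), fun a ha => ?_⟩
  calc (w * n * w⁻¹)⁻¹ * a * (w * n * w⁻¹) = w * (n⁻¹ * (w⁻¹ * a * w) * n) * w⁻¹ := by group
    _ = w * ((w⁻¹ * y * w)⁻¹ * (w⁻¹ * a * w) * (w⁻¹ * y * w)) * w⁻¹ := by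
        rw [hn' _ ⟨a, ha, rfl⟩]
    _ = y⁻¹ * a * y := by group
    _ = g⁻¹ * a * g := hy' a ha

/-! ### nontrivial `p`-core -/

theorem stepOK_of_core [Finite G] (P : Sylow p G)
    (hnc : ¬ (P : Subgroup G) ⊓ centralizer (Cfsg.pCore p G : Set G) ≤ Cfsg.pCore p G)
    (IH : ∀ M : Subgroup G, M ≠ ⊤ → Controls p M)
    (IHq : Cfsg.pCore p G ≠ ⊥ → Controls p (G ⧸ Cfsg.pCore p G))
    (hcore : Cfsg.pCore p G ≠ ⊥) (Q : Sylow p G) (hQ : IsTame p (P : Subgroup G) Q) :
    StepOK P ((P : Subgroup G) ⊓ (Q : Subgroup G)) := by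
  classical
  induction hn : Nat.card (P : Subgroup G) -
      Nat.card ((P : Subgroup G) ⊓ (Q : Subgroup G) : Subgroup G)
      using Nat.strong_induction_on generalizing Q with
  | _ n ih =>
  subst hn
  intro x hx
  set H := Cfsg.pCore p G with hH
  set T := (P : Subgroup G) ⊓ (Q : Subgroup G) with hT
  set C := centralizer (H : Set G) with hC
  set N := normalizer (T : Set G) with hN
  have hCn : C.Normal := inferInstance
  have hHP : H ≤ (P : Subgroup G) := PSolvable.pCore_le_sylow P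
  have hHT : H ≤ T := le_inf hHP (PSolvable.pCore_le_sylow Q)
  have hTP : T ≤ (P : Subgroup G) := inf_le_left
  by_cases hCT : (P : Subgroup G) ⊓ C ⊓ N ≤ T
  · -- `T` contains `H C_P(H)`
    set Q₀ := H ⊔ ((P : Subgroup G) ⊓ C) with hQ₀
    have hQ₀P : Q₀ ≤ (P : Subgroup G) := sup_le hHP inf_le_left
    have hQ₀T : Q₀ ≤ T := by
      by_contra hle
      have hlt : T < T ⊔ Q₀ := left_lt_sup.2 hle
      obtain ⟨q, hq, hqT⟩ := SetLike.exists_of_lt
        (Transfer.lt_inf_normalizer (P.2.to_le (sup_le hTP hQ₀P)) hlt)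
      have hTn : T ≤ normalizer (((P : Subgroup G) ⊓ C : Subgroup G) : Set G) :=
        hTP.trans (FusionMod.le_normalizer_inf P C)
      have hq' : q ∈ ((T ⊔ ((P : Subgroup G) ⊓ C) : Subgroup G) : Set G) := by
        have h := (mem_inf.1 hq).1
        rwa [hQ₀, ← sup_assoc, sup_eq_left.2 hHT] at h
      rw [coe_mul_of_left_le_normalizer_right _ _ hTn] at hq'
      obtain ⟨t, ht, c, hc, rfl⟩ := hq'
      have hcN : c ∈ N := by
        have := mul_mem (inv_mem (le_normalizer ht : t ∈ N)) (mem_inf.1 hq).2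
        simpa using this
      exact hqT (mul_mem ht (hCT (mem_inf.2 ⟨hc, hcN⟩)))
    have hxQ₀ : x ∈ normalizer (Q₀ : Set G) := by
      have heq : Q₀ = T ⊓ (H ⊔ C) := by
        refine le_antisymm (le_inf hQ₀T (sup_le_sup_left inf_le_right H)) fun z hz => ?_
        obtain ⟨hzT, hzs⟩ := mem_inf.1 hz
        obtain ⟨h, hh, c, hc, rfl⟩ := mem_sup_of_normal_left.1 hzs
        have hcT : c ∈ T := by
          have := mul_mem (inv_mem (hHT hh)) hzT
          simpa using this
        exact mul_mem (mem_sup_left hh) (mem_sup_right (mem_inf.2 ⟨hTP hcT, hc⟩))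
      rw [heq, mem_normalizer_iff]
      intro z
      have hn : (H ⊔ C).Normal := inferInstance
      show z ∈ T ∧ z ∈ H ⊔ C ↔ x * z * x⁻¹ ∈ T ∧ x * z * x⁻¹ ∈ H ⊔ C
      exact and_congr (mem_normalizer_iff.1 hx z)
        (mem_normalizer_iff.1 (normalizer_eq_top_iff.2 hn ▸ mem_top x) z)
    have hPQ₀ : (P : Subgroup G) ≤ normalizer (Q₀ : Set G) := by
      intro y hy
      rw [mem_normalizer_iff]
      have h1 : rc y Q₀ = Q₀ := by
        rw [hQ₀, rc, Subgroup.map_sup]
        congr 1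
        · exact rc_of_mem_normalizer (normalizer_eq_top_iff.2 (inferInstance : H.Normal) ▸ mem_top y)
        · exact rc_of_mem_normalizer (FusionMod.le_normalizer_inf P C hy)
      intro z
      rw [← mem_rc, h1]
    have hne : normalizer (Q₀ : Set G) ≠ ⊤ := fun h => hnc (le_sup_right.trans
      (PSolvable.le_pCore (hN := normalizer_eq_top_iff.1 h) (P.2.to_le hQ₀P)))
    exact agreesIn_of_le_sub P (IH _ hne) hPQ₀ (fun a ha => hTP ha) hxQ₀
      (by rintro _ ⟨a, ha, rfl⟩; exact hTP ((mem_normalizer_iff''.1 hx a).1 ha))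
  · -- a larger subgroup is moved
    set S := (P : Subgroup G) ⊓ N with hS
    set D := C ⊓ N with hD
    set SD := S ⊓ C with hSD
    have hSp : IsPGroup p S := P.2.to_le inf_le_left
    set SN : Sylow p N := (IsPGroup.of_equiv hSp (subgroupOfEquivOfLe inf_le_right).symm).toSylow hQ.1
    have hfr := FusionMod.frattini_inf SN (C.subgroupOf N)
    have hxdec : (⟨x, hx⟩ : N) ∈ normalizer ((((SN : Subgroup N) ⊓ C.subgroupOf N) : Subgroup N) : Set N) ⊔
        C.subgroupOf N := by rw [hfr]; exact mem_top _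
    rw [sup_comm] at hxdec
    obtain ⟨d, hd, y, hy, hdy⟩ := mem_sup_of_normal_left.1 hxdec
    have hdy' : (d : G) * y = x := congrArg Subtype.val hdy
    have hySD : (y : G) ∈ normalizer (SD : Set G) := by
      have h1 := le_normalizer_map N.subtype (mem_map_of_mem N.subtype hy)
      have h2 : ((SN : Subgroup N) ⊓ C.subgroupOf N).map N.subtype = SD := by
        rw [show (SN : Subgroup N) = S.subgroupOf N from rfl, subgroupOf, subgroupOf, ← comap_inf,
          ← subgroupOf, map_subgroupOf_eq_of_le (inf_le_left.trans inf_le_right)]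
      rwa [h2] at h1
    set U := T ⊔ SD with hU
    have hUP : U ≤ (P : Subgroup G) := sup_le hTP (inf_le_left.trans inf_le_left)
    have hTU : T < U := by
      refine left_lt_sup.2 fun h => hCT ?_
      intro z hz
      obtain ⟨hz1, hz3⟩ := mem_inf.1 hz
      obtain ⟨hz1, hz2⟩ := mem_inf.1 hz1
      exact h (mem_inf.2 ⟨mem_inf.2 ⟨hz1, hz3⟩, hz2⟩)
    have hrcU : rc (y : G) U = U := by
      rw [hU, rc, Subgroup.map_sup]
      congr 1
      · exact rc_of_mem_normalizer y.2
      · exact rc_of_mem_normalizer hySD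
    obtain ⟨n₂, hn₂, hn₂'⟩ : AgreesIn (zjNormalizer p (P : Subgroup G)) (y : G) (U : Set G) := by
      refine agreesIn_of_steps P hUP ?_ (Nat.card U) (le_of_eq (by rw [closure_eq]))
        fun Q' hQ' hk => ?_
      · rintro _ ⟨a, ha, rfl⟩
        refine hUP (hrcU ▸ mem_rc.2 ?_)
        simpa [mul_assoc] using ha
      · have h1 : Nat.card T < Nat.card U := Set.ncard_lt_ncard hTU (Set.toFinite _)
        have h2 := card_le_of_le (inf_le_left : (P : Subgroup G) ⊓ (Q' : Subgroup G) ≤ P)
        exact ih _ (by omega) Q' hQ' rfl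
    have hdN : (d : G) ∈ N := d.2
    have hdC : (d : G) ∈ C := mem_subgroupOf.1 hd
    -- the part in `C(H)`
    obtain ⟨n₁, hn₁, hn₁'⟩ : AgreesIn (zjNormalizer p (P : Subgroup G)) (d : G) (T : Set G) := by
      have himg : (fun a => (d : G)⁻¹ * a * (d : G)) '' (T : Set G) ⊆ (T : Set G) := by
        rintro _ ⟨a, ha, rfl⟩; exact (mem_normalizer_iff''.1 hdN a).1 ha
      by_cases hG1 : C ⊔ (P : Subgroup G) = ⊤
      swap
      · exact agreesIn_of_le_sub P (IH _ hG1) le_sup_right (fun a ha => hTP ha)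
          (mem_sup_left hdC) (himg.trans fun a ha => hTP ha)
      -- modulo the core
      set π := QuotientGroup.mk' H with hπ
      have hπs : Function.Surjective π := QuotientGroup.mk'_surjective H
      set Pb : Sylow p (G ⧸ H) := P.mapSurjective hπs
      have hPbc : (Pb : Subgroup (G ⧸ H)) = (P : Subgroup G).map π := rfl
      obtain ⟨nb, hnb, hnb'⟩ := IHq hcore Pb (π '' (T : Set G)) (π d)
        (by rintro _ ⟨a, ha, rfl⟩; exact mem_map_of_mem π (hTP ha))
        (by
          rintro _ ⟨_, ⟨a, ha, rfl⟩, rfl⟩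
          show (π d)⁻¹ * π a * π d ∈ (P : Subgroup G).map π
          rw [← map_inv, ← map_mul, ← map_mul]
          exact mem_map_of_mem π (hTP (himg ⟨a, ha, rfl⟩)))
      obtain ⟨n, rfl⟩ := hπs nb
      set N1 := (zjNormalizer p (Pb : Subgroup (G ⧸ H))).comap π with hN1
      have hPN1 : (P : Subgroup G) ≤ N1 := fun a ha =>
        mem_comap.2 (le_zjNormalizer _ (mem_map_of_mem π ha))
      have hN1ne : N1 ≠ ⊤ := by
        intro h
        have h1 : zjNormalizer p (Pb : Subgroup (G ⧸ H)) = ⊤ := by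
          rw [← map_comap_eq_self_of_surjective hπs (zjNormalizer p (Pb : Subgroup (G ⧸ H))),
            ← hN1, h, map_top_of_surjective π hπs]
        have h2 : Cfsg.centerThompsonOf p (Pb : Subgroup (G ⧸ H)) = ⊥ := le_bot_iff.1
          (PSolvable.pCore_quotient_eq_bot (p := p) (G := G) ▸ PSolvable.le_pCore
            (hN := normalizer_eq_top_iff.1 h1) (Pb.2.to_le (OddStability.centerThompsonOf_le _)))
        refine center_ne_bot (Pb.2.to_le (Thompson.thompsonSubgroupOf_le p _))
          (Thompson.thompsonSubgroupOf_ne_bot (Pb.2.card_eq_or_dvd.resolve_left fun h3 => hnc ?_)) h2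
        have h4 := eq_bot_of_card_eq _ h3
        rw [hPbc, Subgroup.map_eq_bot_iff, QuotientGroup.ker_mk'] at h4
        exact inf_le_left.trans h4
      have hnT : ∀ t ∈ T, (n⁻¹ * t * n) * ((d : G)⁻¹ * t * (d : G))⁻¹ ∈ H := by
        intro t ht
        have := hnb' (π t) ⟨t, ht, rfl⟩
        rw [← QuotientGroup.eq_one_iff, ← QuotientGroup.mk'_apply, ← hπ]
        simp only [map_mul, map_inv]
        rw [this, mul_inv_cancel]
      have hnN : n ∈ N := by
        refine Fusion4.mem_normalizer_of_rc_eq (eq_of_le_of_card_ge ?_ (card_rc n T).ge)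
        intro z hz
        rw [mem_rc] at hz
        have h1 := hnT _ hz
        rw [show n⁻¹ * (n * z * n⁻¹) * n = z by group] at h1
        have h2 := mul_mem (hHT h1) (himg ⟨_, hz, rfl⟩ : (d : G)⁻¹ * (n * z * n⁻¹) * (d : G) ∈ T)
        rw [inv_mul_cancel_right] at h2
        exact h2
      obtain ⟨m, hm, hm'⟩ := agreesIn_of_le_sub P (IH N1 hN1ne) hPN1 (fun a ha => hTP ha)
        (mem_comap.2 hnb) (g := n) (by
          rintro _ ⟨a, ha, rfl⟩; exact hTP ((mem_normalizer_iff''.1 hnN a).1 ha))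
      -- `d n⁻¹` stabilises the series `1 ≤ H ≤ T`
      set e := (d : G) * n⁻¹ with he
      set D' : Subgroup N := ((centralizer ((T.map π : Subgroup (G ⧸ H)) : Set (G ⧸ H))).comap π).subgroupOf N
        with hD'
      have heN : e ∈ N := mul_mem hdN (inv_mem hnN)
      have heD' : (⟨e, heN⟩ : N) ∈ D' := by
        rw [hD', mem_subgroupOf, mem_comap, mem_centralizer_iff]
        rintro _ ⟨t, ht, rfl⟩
        have h1 := hnb' (π t) ⟨t, ht, rfl⟩
        show π t * π (d * n⁻¹) = π (d * n⁻¹) * π t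
        rw [map_mul, map_inv]
        calc π t * (π d * (π n)⁻¹) = π d * ((π d)⁻¹ * π t * π d) * (π n)⁻¹ := by group
          _ = π d * ((π n)⁻¹ * π t * π n) * (π n)⁻¹ := by rw [h1]
          _ = _ := by group
      have hD'n : D'.Normal := by
        refine ⟨fun a ha g => ?_⟩
        rw [hD', mem_subgroupOf, mem_comap, mem_centralizer_iff] at ha ⊢
        rintro _ ⟨t, ht, rfl⟩
        have ht' : (g : G)⁻¹ * t * g ∈ T := (mem_normalizer_iff''.1 g.2 t).1 ht
        have h1 := ha _ ⟨_, ht', rfl⟩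
        simp only [map_mul, map_inv, Subgroup.coe_mul, Subgroup.coe_inv] at h1 ⊢
        calc π t * (π g * π a * (π g)⁻¹) = π g * (((π g)⁻¹ * π t * π g) * π a) * (π g)⁻¹ := by group
          _ = π g * (π a * ((π g)⁻¹ * π t * π g)) * (π g)⁻¹ := by rw [h1]
          _ = _ := by group
      set CT : Subgroup N := (centralizer (T : Set G)).subgroupOf N
      have hCTn : CT.Normal := by
        refine ⟨fun a ha g => ?_⟩
        rw [mem_subgroupOf, mem_centralizer_iff] at ha ⊢
        intro t ht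
        have h1 := ha _ ((mem_normalizer_iff''.1 g.2 t).1 ht)
        simp only [Subgroup.coe_mul, Subgroup.coe_inv]
        calc t * ((g : G) * a * (g : G)⁻¹) = g * (((g : G)⁻¹ * t * g) * a) * (g : G)⁻¹ := by group
          _ = g * (a * ((g : G)⁻¹ * t * g)) * (g : G)⁻¹ := by rw [h1]
          _ = _ := by group
      have hCTD : CT ≤ D' := by
        intro a ha
        rw [hD', mem_subgroupOf, mem_comap, mem_centralizer_iff]
        rintro _ ⟨t, ht, rfl⟩
        rw [← map_mul, ← map_mul, mem_centralizer_iff.1 (mem_subgroupOf.1 ha) t ht]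
      -- the quotient is a `p`-group
      have hpow : ∀ a : N, a ∈ D' → ∃ k, a ^ p ^ k ∈ CT := by
        intro a ha
        obtain ⟨c, hc, s, hs, hcs⟩ := mem_sup_of_normal_left.1
          (show (a : G) ∈ C ⊔ (P : Subgroup G) by rw [hG1]; exact mem_top _)
        obtain ⟨i, hi⟩ := P.2 ⟨s, hs⟩
        set f := (a : G) ^ p ^ i with hf
        have hfC : f ∈ C := by
          rw [← QuotientGroup.eq_one_iff, hf, QuotientGroup.mk_pow, ← hcs, QuotientGroup.mk_mul,
            (QuotientGroup.eq_one_iff c).2 hc, one_mul, ← QuotientGroup.mk_pow,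
            show s ^ p ^ i = 1 from congrArg Subtype.val hi]
          rfl
        obtain ⟨j, hj⟩ := (PSolvable.pCore_isPGroup (p := p) (G := G)).exists_card_eq
        refine ⟨i + j, mem_subgroupOf.2 (mem_centralizer_iff.2 fun t ht => ?_)⟩
        rw [SubgroupClass.coe_pow, pow_add, pow_mul, ← hf]
        have hfD : π f ∈ centralizer ((T.map π : Subgroup (G ⧸ H)) : Set (G ⧸ H)) := by
          rw [hf, map_pow]
          exact pow_mem (mem_comap.1 (mem_subgroupOf.1 ha)) _
        set z := t⁻¹ * (f * t * f⁻¹) with hz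
        have hzH : z ∈ H := by
          rw [← QuotientGroup.eq_one_iff, ← QuotientGroup.mk'_apply, ← hπ, hz]
          simp only [map_mul, map_inv]
          rw [← mem_centralizer_iff.1 hfD _ (mem_map_of_mem π ht)]
          group
        have hfz : Commute f z := (mem_centralizer_iff.1 hfC z hzH).symm
        have hit : ∀ l : ℕ, f ^ l * t = t * z ^ l * f ^ l := by
          intro l
          induction l with
          | zero => simp
          | succ l ihl =>
            calc f ^ (l + 1) * t = f * (f ^ l * t) := by rw [pow_succ' f, mul_assoc]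
              _ = f * t * z ^ l * f ^ l := by rw [ihl]; group
              _ = t * z * (f * z ^ l) * f ^ l := by rw [hz]; group
              _ = _ := by rw [(hfz.pow_right l).eq, pow_succ' z, pow_succ' f]; group
        have hz1 : z ^ p ^ j = 1 := by
          have := congrArg Subtype.val (pow_card_eq_one' (x := (⟨z, hzH⟩ : H)))
          rw [hj] at this
          exact this
        rw [hit, hz1, mul_one]
      set SD' := (SN : Subgroup N) ⊓ D' with hSD'
      have htop : D' ≤ CT ⊔ SD' := by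
        have h1 : (CT ⊔ SD').relIndex D' = 1 := by
          have hp1 : ∃ k, CT.relIndex D' = p ^ k := by
            refine IsPGroup.iff_card.1 (show IsPGroup p (D' ⧸ CT.subgroupOf D') from fun q => ?_)
            obtain ⟨a, rfl⟩ := QuotientGroup.mk'_surjective _ q
            obtain ⟨k, hk⟩ := hpow a a.2
            exact ⟨k, by rw [← map_pow]; exact (QuotientGroup.eq_one_iff _).2 (mem_subgroupOf.2 hk)⟩
          obtain ⟨k, hk⟩ := hp1
          have h2 := relIndex_dvd_of_le_left D' (le_sup_left : CT ≤ CT ⊔ SD')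
          rw [hk] at h2
          obtain ⟨l, -, hl⟩ := (Nat.dvd_prime_pow (Fact.out : p.Prime)).1 h2
          rcases Nat.eq_zero_or_pos l with rfl | hl0
          · rw [hl, pow_zero]
          · exfalso
            exact FusionMod.not_dvd_relIndex_inf_normal SN D' (((dvd_pow_self p hl0.ne').trans
              hl.symm.dvd).trans (relIndex_dvd_of_le_left D' le_sup_right))
        exact relIndex_eq_one.1 h1
      obtain ⟨c, hc, s, hs, hcs⟩ := mem_sup_of_normal_left.1 (htop heD')
      have hsP : (s : G) ∈ (P : Subgroup G) := (mem_inf.1 ((mem_inf.1 hs).1 : (s : G) ∈ S)).1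
      have hcs' : (c : G) * s = (d : G) * n⁻¹ := congrArg Subtype.val hcs
      refine ⟨(s : G) * m, mul_mem (le_zjNormalizer _ hsP) hm, fun t ht => ?_⟩
      have hst : (s : G)⁻¹ * t * s ∈ T := (mem_normalizer_iff''.1 s.2 t).1 ht
      have hd' : (d : G) = c * s * n := by rw [hcs', inv_mul_cancel_right]
      calc ((s : G) * m)⁻¹ * t * ((s : G) * m) = m⁻¹ * ((s : G)⁻¹ * t * s) * m := by group
        _ = n⁻¹ * ((s : G)⁻¹ * t * s) * n := hm' _ hst
        _ = n⁻¹ * ((s : G)⁻¹ * ((c : G)⁻¹ * (t * c)) * s) * n := by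
          rw [mem_centralizer_iff.1 (mem_subgroupOf.1 hc) t ht]; group
        _ = _ := by rw [hd']; group
    have h12 := AgreesIn.comp (h := (y : G)) ⟨n₁, hn₁, hn₁'⟩ ⟨n₂, hn₂, fun a ha => hn₂' a ?_⟩
    · rwa [hdy'] at h12
    · obtain ⟨t, ht, rfl⟩ := ha
      exact mem_sup_left ((mem_normalizer_iff''.1 hdN t).1 ht)

/-- A class of groups closed under subgroups and quotients by normal `p`- and `p'`-subgroups, all
of whose members are stable. -/
structure StableClass (p : ℕ) where
  mem : ∀ (G : Type u) [Group G], Prop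
  sub : ∀ {G : Type u} [Group G] [Finite G] (M : Subgroup G), mem G → mem M
  quot : ∀ {G : Type u} [Group G] [Finite G] (N : Subgroup G) [N.Normal],
    IsPGroup p N ∨ ¬ p ∣ Nat.card N → mem G → mem (G ⧸ N)
  stable : ∀ {G : Type u} [Group G] [Finite G], mem G → ∀ S : Subgroup G, IsStableAt p S

/-- In a stable class the normaliser of `Z(J(P))` controls fusion in `P`. -/
theorem controls_of_stableClass (hp : p ≠ 2) (Cl : StableClass.{u} p) (G : Type u) [Group G]
    [Finite G] (hfree : Cl.mem G) : Controls p G := by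
  induction hn : Nat.card G using Nat.strong_induction_on generalizing G with
  | _ n ih =>
  subst hn
  have IH : ∀ M : Subgroup G, M ≠ ⊤ → Controls p M := fun M hM =>
    ih _ (lt_of_le_of_ne (card_le_card_group M) fun he => hM (eq_top_of_card_eq _ he)) M
      (Cl.sub M hfree) rfl
  intro P A g hA hAg
  rcases eq_or_ne (Cfsg.pCore p G) ⊥ with hcore | hcore
  · rcases eq_or_ne (closure A) ⊥ with hA1 | hA1
    · refine ⟨1, one_mem _, fun a ha => ?_⟩
      have : a = 1 := mem_bot.1 (hA1 ▸ subset_closure ha)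
      subst this
      group
    refine agreesIn_of_steps P hA hAg (Nat.card (closure A)) le_rfl fun Q hQ hk x hx => ?_
    set T := (P : Subgroup G) ⊓ (Q : Subgroup G) with hT
    have hTN : T ≤ (P : Subgroup G) ⊓ normalizer (T : Set G) := le_inf inf_le_left le_normalizer
    refine controls_local P hcore IH T (fun h => hA1 (eq_bot_of_card_eq _ ?_)) inf_le_left hQ.1
      (T : Set G) x (fun a ha => hTN ha) hx ?_
    · rw [h, card_bot] at hk
      have := Nat.card_pos (α := closure A)
      omega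
    · rintro _ ⟨a, ha, rfl⟩
      exact hTN ((mem_normalizer_iff''.1 hx a).1 ha)
  · by_cases hc : (P : Subgroup G) ⊓ centralizer (Cfsg.pCore p G : Set G) ≤ Cfsg.pCore p G
    · exact controls_of_constrained hp (Cl.stable (Cl.quot _ (Or.inr PSolvable.pPrimeCore_not_dvd) hfree)) P hc hA hAg
    · refine agreesIn_of_steps P hA hAg 0 (Nat.zero_le _) fun Q hQ _ =>
        stepOK_of_core P hc IH (fun h => ih _ ?_ _ (Cl.quot _ (Or.inl PSolvable.pCore_isPGroup) hfree) rfl) hcore Q hQ
      have h1 := (Cfsg.pCore p G).card_mul_index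
      have h2 : 1 < Nat.card (Cfsg.pCore p G) :=
        Finite.one_lt_card_iff_nontrivial.2 ((nontrivial_iff_ne_bot _).2 h)
      show (Cfsg.pCore p G).index < _
      rw [← h1]
      exact lt_mul_of_one_lt_left (Nat.pos_of_ne_zero index_ne_zero_of_finite) h2

/-- The class of `Qd(p)`-free groups. -/
def qdFreeClass (hp : p ≠ 2) : StableClass.{u} p where
  mem G _ := ¬ Cfsg.Involves (Cfsg.qd p) G
  sub M h := not_involves_subgroup M h
  quot N _ _ h := not_involves_quotient N h
  stable h S := isStableAt_of_not_involves hp h S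

/-- **Glauberman**: in a `Qd(p)`-free group the normaliser of `Z(J(P))` controls fusion in `P`. -/
theorem controls_of_not_involves (hp : p ≠ 2) (G : Type u) [Group G] [Finite G]
    (hfree : ¬ Cfsg.Involves (Cfsg.qd p) G) : Controls p G :=
  controls_of_stableClass hp (qdFreeClass hp) G hfree

end Cfsg.Agent.Lib.ThompsonNPC
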