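import Mathlib
import Cfsg.Agent.Lib.ThompsonNPC.ZJControl
/-!
In a stable class of groups some centric radical subgroup `Q`, normal in the Sylow subgroup `P` and
contained in all others, controls fusion in `P`.

The induction is on the order: through `N(Z(J(P)))` if that is proper, and otherwise through
`G/H` or through `D = H C(H)`, `H = O_p(G)`, the step from `D` to `G` being a Frattini argument at
each tame intersection.
-/

set_option autoImplicit false

namespace Cfsg.Agent.Lib.ThompsonNPC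

open Subgroup
open Cfsg.Agent.Lib
open Cfsg.Agent.Lib.Fusion4 (rc mem_rc rc_mono rc_inf rc_of_mem_normalizer card_rc Chain IsTame)

universe u

variable {p : ℕ} [Fact p.Prime]
variable {G : Type u} [Group G]

/-! ### small tools -/

theorem mem_normalizer_inf' {A B : Subgroup G} {g : G} (h1 : g ∈ normalizer (A : Set G))
    (h2 : g ∈ normalizer (B : Set G)) : g ∈ normalizer ((A ⊓ B : Subgroup G) : Set G) :=
  Fusion4.mem_normalizer_of_rc_eq (by rw [rc_inf, rc_of_mem_normalizer h1, rc_of_mem_normalizer h2])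

theorem mem_normalizer_sup' {A B : Subgroup G} {g : G} (h1 : g ∈ normalizer (A : Set G))
    (h2 : g ∈ normalizer (B : Set G)) : g ∈ normalizer ((A ⊔ B : Subgroup G) : Set G) :=
  Fusion4.mem_normalizer_of_rc_eq (by
    rw [show rc g (A ⊔ B) = rc g A ⊔ rc g B from Subgroup.map_sup _ _ _,
      rc_of_mem_normalizer h1, rc_of_mem_normalizer h2])

theorem mem_normalizer_of_normal' (K : Subgroup G) [K.Normal] (g : G) :
    g ∈ normalizer (K : Set G) :=
  normalizer_eq_top_iff.2 (inferInstance : K.Normal) ▸ mem_top g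

theorem image_subset_of_mem_normalizer {T : Subgroup G} {g : G} (hg : g ∈ normalizer (T : Set G)) :
    (fun a => g⁻¹ * a * g) '' (T : Set G) ⊆ (T : Set G) := by
  rintro _ ⟨a, ha, rfl⟩
  exact (mem_normalizer_iff''.1 hg a).1 ha

theorem mem_normalizer_of_agrees [Finite G] {T : Subgroup G} {m u : G}
    (hu : u ∈ normalizer (T : Set G)) (h : Agrees m u (T : Set G)) :
    m ∈ normalizer (T : Set G) := by
  refine Fusion4.mem_normalizer_of_rc_eq (eq_of_le_of_card_ge ?_ (card_rc m T).ge)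
  rintro _ ⟨t, ht, rfl⟩
  have := (mem_normalizer_iff''.1 hu t).1 ht
  rw [← h t ht] at this
  simpa using this

theorem Agrees.mul_inv_mem_centralizer {A : Set G} {m u : G} (h : Agrees m u A) :
    u * m⁻¹ ∈ centralizer A := by
  refine mem_centralizer_iff.2 fun a ha => ?_
  calc a * (u * m⁻¹) = u * (u⁻¹ * a * u) * m⁻¹ := by group
    _ = u * (m⁻¹ * a * m) * m⁻¹ := by rw [h a ha]
    _ = _ := by group

theorem le_of_inf_normalizer_le [Finite G] {T X P : Subgroup G} (hP : IsPGroup p P) (hTP : T ≤ P)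
    (hXP : X ≤ P) (hTX : T ≤ normalizer (X : Set G)) (h : X ⊓ normalizer (T : Set G) ≤ T) :
    X ≤ T := by
  by_contra hle
  obtain ⟨q, hq, hqT⟩ := SetLike.exists_of_lt
    (Transfer.lt_inf_normalizer (hP.to_le (sup_le hTP hXP)) (left_lt_sup.2 hle))
  have hq' : q ∈ ((T ⊔ X : Subgroup G) : Set G) := (mem_inf.1 hq).1
  rw [coe_mul_of_left_le_normalizer_right _ _ hTX] at hq'
  obtain ⟨t, ht, c, hc, rfl⟩ := hq'
  refine hqT (mul_mem ht (h (mem_inf.2 ⟨hc, ?_⟩)))
  have := mul_mem (inv_mem (le_normalizer ht : t ∈ normalizer (T : Set G))) (mem_inf.1 hq).2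
  simpa using this

theorem exists_pow_mem_sup {M S : Subgroup G} (hS : IsPGroup p S)
    (hSM : S ≤ normalizer (M : Set G)) {x : G} (hx : x ∈ S ⊔ M) : ∃ k : ℕ, x ^ p ^ k ∈ M := by
  rw [← SetLike.mem_coe, coe_mul_of_left_le_normalizer_right _ _ hSM] at hx
  obtain ⟨s, hs, m, hm, rfl⟩ := hx
  have key : ∀ n : ℕ, ∃ m' ∈ M, (s * m) ^ n = s ^ n * m' := by
    intro n
    induction n with
    | zero => exact ⟨1, one_mem _, by simp⟩
    | succ n ih =>
      obtain ⟨m', hm', h⟩ := ih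
      refine ⟨s⁻¹ * m' * s * m, mul_mem ((mem_normalizer_iff''.1 (hSM hs) m').1 hm') hm, ?_⟩
      rw [pow_succ, h, pow_succ]
      group
  obtain ⟨k, hk⟩ := hS ⟨s, hs⟩
  obtain ⟨m', hm', h⟩ := key (p ^ k)
  refine ⟨k, ?_⟩
  rw [h, show s ^ p ^ k = 1 from congrArg Subtype.val hk, one_mul]
  exact hm'

theorem exists_relIndex_eq_pow [Finite G] {M X : Subgroup G} (hXM : X ≤ normalizer (M : Set G))
    (h : ∀ x ∈ X, ∃ k : ℕ, x ^ p ^ k ∈ M) : ∃ k : ℕ, M.relIndex X = p ^ k := by
  have : (M.subgroupOf X).Normal := normal_subgroupOf_of_le_normalizer hXM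
  refine IsPGroup.iff_card.1 (show IsPGroup p (X ⧸ M.subgroupOf X) from fun q => ?_)
  obtain ⟨a, rfl⟩ := QuotientGroup.mk'_surjective _ q
  obtain ⟨k, hk⟩ := h a a.2
  exact ⟨k, by rw [← map_pow]; exact (QuotientGroup.eq_one_iff _).2 (mem_subgroupOf.2 hk)⟩

theorem exists_pow_mem_centralizer [Finite G] {T T₀ : Subgroup G} (hT₀ : IsPGroup p T₀) {f : G}
    (hf : f ∈ centralizer (T₀ : Set G)) (h : ∀ t ∈ T, t⁻¹ * (f * t * f⁻¹) ∈ T₀) :
    ∃ j : ℕ, f ^ p ^ j ∈ centralizer (T : Set G) := by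
  obtain ⟨j, hj⟩ := hT₀.exists_card_eq
  refine ⟨j, mem_centralizer_iff.2 fun t ht => ?_⟩
  set z := t⁻¹ * (f * t * f⁻¹) with hz
  have hzT : z ∈ T₀ := h t ht
  have hfz : Commute f z := (mem_centralizer_iff.1 hf z hzT).symm
  have hit : ∀ l : ℕ, f ^ l * t = t * z ^ l * f ^ l := by
    intro l
    induction l with
    | zero => simp
    | succ l ihl =>
      calc f ^ (l + 1) * t = f * (f ^ l * t) := by rw [pow_succ' f, mul_assoc]
        _ = f * t * z ^ l * f ^ l := by rw [ihl]; group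
        _ = t * z * (f * z ^ l) * f ^ l := by rw [hz]; group
        _ = _ := by rw [(hfz.pow_right l).eq, pow_succ' z, pow_succ' f]; group
  have hz1 : z ^ p ^ j = 1 := by
    have := congrArg Subtype.val (pow_card_eq_one' (x := (⟨z, hzT⟩ : T₀)))
    rw [hj] at this
    exact this
  rw [hit, hz1, mul_one]

theorem exists_frattini_factor [Finite G] {N K S : Subgroup G} (hS : IsPGroup p S) (hSN : S ≤ N)
    (hidx : ¬ p ∣ S.relIndex N) (hNK : N ≤ normalizer (K : Set G)) {x : G} (hx : x ∈ N) :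
    ∃ d ∈ K ⊓ N, ∃ y ∈ N, y ∈ normalizer ((S ⊓ K : Subgroup G) : Set G) ∧ d * y = x := by
  have : (K.subgroupOf N).Normal := normal_subgroupOf_of_le_normalizer hNK
  set SN : Sylow p N := (IsPGroup.of_equiv hS (subgroupOfEquivOfLe hSN).symm).toSylow hidx
  have hfr := FusionMod.frattini_inf SN (K.subgroupOf N)
  have hxdec : (⟨x, hx⟩ : N) ∈
      normalizer ((((SN : Subgroup N) ⊓ K.subgroupOf N) : Subgroup N) : Set N) ⊔ K.subgroupOf N := by
    rw [hfr]; exact mem_top _
  rw [sup_comm] at hxdec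
  obtain ⟨d, hd, y, hy, hdy⟩ := mem_sup_of_normal_left.1 hxdec
  refine ⟨d, mem_inf.2 ⟨mem_subgroupOf.1 hd, d.2⟩, y, y.2, ?_, congrArg Subtype.val hdy⟩
  have h1 := le_normalizer_map N.subtype (mem_map_of_mem N.subtype hy)
  have h2 : ((SN : Subgroup N) ⊓ K.subgroupOf N).map N.subtype = S ⊓ K := by
    rw [show (SN : Subgroup N) = S.subgroupOf N from rfl, subgroupOf, subgroupOf, ← comap_inf,
      ← subgroupOf, map_subgroupOf_eq_of_le (inf_le_left.trans hSN)]
  rwa [h2] at h1

theorem not_dvd_relIndex_inf [Finite G] {N K S : Subgroup G} (hS : IsPGroup p S) (hSN : S ≤ N)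
    (hidx : ¬ p ∣ S.relIndex N) (hNK : N ≤ normalizer (K : Set G)) :
    ¬ p ∣ (S ⊓ K).relIndex (K ⊓ N) := by
  have : (K.subgroupOf N).Normal := normal_subgroupOf_of_le_normalizer hNK
  set SN : Sylow p N := (IsPGroup.of_equiv hS (subgroupOfEquivOfLe hSN).symm).toSylow hidx
  have h := FusionMod.not_dvd_relIndex_inf_normal SN (K.subgroupOf N)
  rwa [← relIndex_map_map_of_injective _ _ N.subtype_injective,
    show (SN : Subgroup N) = S.subgroupOf N from rfl, subgroupOf, subgroupOf, ← comap_inf,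
    ← subgroupOf, map_subgroupOf_eq_of_le (inf_le_left.trans hSN), ← subgroupOf,
    subgroupOf_map_subtype] at h

/-- A normal subgroup `E` of `N` with `E/C` a `p`-group lies in `C` and the Sylow subgroup. -/
theorem le_sup_sylow_inf [Finite G] {N E C S : Subgroup G} (hS : IsPGroup p S) (hSN : S ≤ N)
    (hidx : ¬ p ∣ S.relIndex N) (hEN : E ≤ N) (hNE : N ≤ normalizer (E : Set G)) (hCE : C ≤ E)
    (hEC : E ≤ normalizer (C : Set G)) (hpow : ∀ a ∈ E, ∃ k : ℕ, a ^ p ^ k ∈ C) :
    E ≤ C ⊔ (S ⊓ E) := by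
  obtain ⟨k, hk⟩ := exists_relIndex_eq_pow hEC hpow
  have h2 := relIndex_dvd_of_le_left E (le_sup_left : C ≤ C ⊔ (S ⊓ E))
  rw [hk] at h2
  obtain ⟨l, -, hl⟩ := (Nat.dvd_prime_pow (Fact.out : p.Prime)).1 h2
  rcases Nat.eq_zero_or_pos l with rfl | hl0
  · exact relIndex_eq_one.1 (by rw [hl, pow_zero])
  · exfalso
    have h3 := not_dvd_relIndex_inf hS hSN hidx hNE
    rw [inf_eq_left.2 hEN] at h3
    exact h3 (((dvd_pow_self p hl0.ne').trans hl.symm.dvd).trans
      (relIndex_dvd_of_le_left E le_sup_right))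

/-! ### reduction to steps, for any subgroup -/

/-- The step at `T` is induced by `N`. -/
def StepIn (N T : Subgroup G) : Prop :=
  ∀ x ∈ normalizer (T : Set G), AgreesIn N x (T : Set G)

theorem agreesIn_of_chain' [Finite G] {P : Sylow p G} {N : Subgroup G} {A : Set G} {g : G}
    (h : Chain P A g) :
    ∀ k, k ≤ Nat.card (closure A) → (∀ Q : Sylow p G, IsTame p (P : Subgroup G) Q →
      k ≤ Nat.card ((P : Subgroup G) ⊓ (Q : Subgroup G) : Subgroup G) →
      StepIn N ((P : Subgroup G) ⊓ (Q : Subgroup G))) →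
    AgreesIn N g A := by
  induction h with
  | nil A => exact fun k _ _ => ⟨1, one_mem _, fun a _ => rfl⟩
  | @cons A g Q x hQ hx hxp hA _ ih =>
    intro k hk hstep
    refine AgreesIn.comp ((hstep Q hQ (hk.trans (card_le_of_le ((closure_le _).2 hA))) x hx).mono hA)
      (ih k ?_ hstep)
    have e : closure ((fun a => x⁻¹ * a * x) '' A) = rc x (closure A) := by
      have h1 : (fun a : G => x⁻¹ * a * x) = (MulAut.conj x⁻¹).toMonoidHom := by
        funext a; simp
      rw [h1, ← MonoidHom.map_closure]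
      rfl
    rwa [e, card_rc]

theorem agreesIn_of_steps' [Finite G] (P : Sylow p G) {N : Subgroup G} {A : Set G} {g : G}
    (hA : A ⊆ (P : Set G)) (hAg : (fun a => g⁻¹ * a * g) '' A ⊆ (P : Set G)) (k : ℕ)
    (hk : k ≤ Nat.card (closure A))
    (hstep : ∀ Q : Sylow p G, IsTame p (P : Subgroup G) Q →
      k ≤ Nat.card ((P : Subgroup G) ⊓ (Q : Subgroup G) : Subgroup G) →
      StepIn N ((P : Subgroup G) ⊓ (Q : Subgroup G))) :
    AgreesIn N g A :=
  agreesIn_of_chain' (Fusion4.chain_of_conj P A g hA hAg) k hk hstep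

/-! ### radical subgroups and control pairs -/

/-- `N(R)/R C(R)` has no nontrivial normal `p`-subgroup. -/
def IsRadical (p : ℕ) (R : Subgroup G) : Prop :=
  ∀ X : Subgroup G, X ≤ normalizer (R : Set G) → normalizer (R : Set G) ≤ normalizer (X : Set G) →
    R ⊔ centralizer (R : Set G) ≤ X →
    (∃ k : ℕ, (R ⊔ centralizer (R : Set G)).relIndex X = p ^ k) →
    X = R ⊔ centralizer (R : Set G)

/-- `N(Q)` controls fusion in `P`, with `Q` normalised by `P` and self-centralising in `P`. -/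
structure IsControlPair (P Q : Subgroup G) : Prop where
  le : Q ≤ P
  norm : P ≤ normalizer (Q : Set G)
  centric : P ⊓ centralizer (Q : Set G) ≤ Q
  control : ∀ (A : Set G) (g : G), A ⊆ (P : Set G) →
    (fun a => g⁻¹ * a * g) '' A ⊆ (P : Set G) → AgreesIn (normalizer (Q : Set G)) g A

/-- A largest control pair. -/
def IsBest (P Q : Subgroup G) : Prop :=
  IsControlPair P Q ∧ ∀ Q' : Subgroup G, IsControlPair P Q' → Nat.card Q' ≤ Nat.card Q

/-- A controlling subgroup lies in every centric radical one. -/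
theorem le_of_control [Finite G] {P Q R : Subgroup G} (hP : IsPGroup p P) (hQP : Q ≤ P)
    (hPQ : P ≤ normalizer (Q : Set G))
    (hcon : ∀ (A : Set G) (g : G), A ⊆ (P : Set G) →
      (fun a => g⁻¹ * a * g) '' A ⊆ (P : Set G) → AgreesIn (normalizer (Q : Set G)) g A)
    (hRP : R ≤ P) (hRc : P ⊓ centralizer (R : Set G) ≤ R) (hrad : IsRadical p R) : Q ≤ R := by
  refine le_of_inf_normalizer_le hP hRP hQP (hRP.trans hPQ) fun z hz => ?_
  set C := centralizer (R : Set G) with hC
  set Qn := Q ⊓ normalizer (R : Set G) with hQn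
  set X := (Qn ⊔ R) ⊔ C with hX
  have hS : Qn ⊔ R ≤ normalizer (C : Set G) :=
    (sup_le inf_le_right le_normalizer).trans (normalizer_le_normalizer_centralizer _)
  have hXN : X ≤ normalizer (R : Set G) :=
    sup_le (sup_le inf_le_right le_normalizer) (centralizer_le_normalizer _)
  have hNM : normalizer (R : Set G) ≤ normalizer ((R ⊔ C : Subgroup G) : Set G) := fun u hu =>
    mem_normalizer_sup' hu (normalizer_le_normalizer_centralizer _ hu)
  have hNX : normalizer (R : Set G) ≤ normalizer (X : Set G) := by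
    intro u hu
    obtain ⟨m, hm, hm'⟩ := hcon R u (fun a ha => hRP ha)
      ((image_subset_of_mem_normalizer hu).trans fun a ha => hRP ha)
    have hmR := mem_normalizer_of_agrees hu hm'
    have hmX : m ∈ normalizer (X : Set G) := mem_normalizer_sup'
      (mem_normalizer_sup' (mem_normalizer_inf' hm (le_normalizer hmR)) hmR)
      (normalizer_le_normalizer_centralizer _ hmR)
    have hcX : u * m⁻¹ ∈ normalizer (X : Set G) :=
      le_normalizer (mem_sup_right hm'.mul_inv_mem_centralizer)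
    simpa using mul_mem hcX hmX
  have hMX : R ⊔ C ≤ X := sup_le (le_sup_right.trans le_sup_left) le_sup_right
  have hXM : X = R ⊔ C := hrad X hXN hNX hMX (exists_relIndex_eq_pow (hXN.trans hNM) fun x hx => by
    obtain ⟨k, hk⟩ := exists_pow_mem_sup (hP.to_le (sup_le (inf_le_left.trans hQP) hRP)) hS hx
    exact ⟨k, mem_sup_right hk⟩)
  have hzX : z ∈ ((R ⊔ C : Subgroup G) : Set G) := hXM ▸ mem_sup_left (mem_sup_left hz)
  rw [coe_mul_of_left_le_normalizer_right _ _
    (le_normalizer.trans (normalizer_le_normalizer_centralizer _))] at hzX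
  obtain ⟨r, hr, c, hc, rfl⟩ := hzX
  refine mul_mem hr (hRc (mem_inf.2 ⟨?_, hc⟩))
  have := mul_mem (inv_mem (hRP hr)) (hQP (mem_inf.1 hz).1)
  simpa using this

/-- A largest control pair is radical. -/
theorem IsBest.isRadical [Finite G] {P : Sylow p G} {Q : Subgroup G}
    (h : IsBest (P : Subgroup G) Q) : IsRadical p Q := by
  obtain ⟨⟨hQP, hPN, hQc, hcon⟩, hmax⟩ := h
  intro X hXN hNX hMX hidx
  set N := normalizer (Q : Set G) with hN
  set C := centralizer (Q : Set G) with hC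
  set M := Q ⊔ C with hM
  set Q' := (P : Subgroup G) ⊓ X with hQ'
  have hidxN : ¬ p ∣ (P : Subgroup G).relIndex N := fun h =>
    P.not_dvd_index (h.trans ⟨_, (relIndex_mul_index hPN).symm⟩)
  have hQX : Q ≤ X := le_sup_left.trans hMX
  have hQQ' : Q ≤ Q' := le_inf hQP hQX
  have hNM : N ≤ normalizer (M : Set G) := fun u hu =>
    mem_normalizer_sup' hu (normalizer_le_normalizer_centralizer _ hu)
  have hXle : X ≤ M ⊔ Q' := by
    refine le_sup_sylow_inf P.2 hPN hidxN hXN hNX hMX (hXN.trans hNM) fun a ha => ?_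
    obtain ⟨k, hk⟩ := hidx
    have : (M.subgroupOf X).Normal := normal_subgroupOf_of_le_normalizer (hXN.trans hNM)
    have h1 := (M.subgroupOf X).pow_index_mem ⟨a, ha⟩
    rw [show (M.subgroupOf X).index = p ^ k from hk] at h1
    exact ⟨k, h1⟩
  set PN : Sylow p N := P.subtype hPN with hPNdef
  have hPNc : (PN : Subgroup N) = (P : Subgroup G).subgroupOf N := rfl
  have : (Q.subgroupOf N).Normal := normal_in_normalizer
  set R := (Cfsg.pPrimeCore p N).map N.subtype with hR
  have hNR : N ≤ normalizer (R : Set G) := by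
    refine le_trans ?_ (le_normalizer_map N.subtype)
    rw [normalizer_eq_top_iff.2 (inferInstance : (Cfsg.pPrimeCore p N).Normal), ← MonoidHom.range_eq_map,
      N.range_subtype]
  have hCR : C ≤ R ⊔ Q' := by
    intro c hc
    have hcN : c ∈ N := centralizer_le_normalizer _ hc
    have h1 : (⟨c, hcN⟩ : N) ∈ centralizer (Q.subgroupOf N : Set N) :=
      mem_centralizer_iff.2 fun q hq => Subtype.ext (mem_centralizer_iff.1 hc q hq)
    have h2 := centralizer_le_pPrimeCore_sup PN (Q.subgroupOf N) (fun z hz => by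
      rw [hPNc] at hz
      refine mem_subgroupOf.2 (hQc (mem_inf.2 ⟨(mem_inf.1 hz).1, mem_centralizer_iff.2 ?_⟩))
      exact fun q hq => congrArg Subtype.val
        (mem_centralizer_iff.1 (mem_inf.1 hz).2 ⟨q, le_normalizer hq⟩ hq)) h1
    have h3 := mem_map_of_mem N.subtype h2
    rw [Subgroup.map_sup, map_subgroupOf_eq_of_le le_normalizer] at h3
    exact sup_le_sup_left hQQ' R h3
  have hXR : X ≤ R ⊔ Q' :=
    hXle.trans (sup_le (sup_le (hQQ'.trans le_sup_right) hCR) le_sup_right)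
  have hQ'N : Q' ≤ N := inf_le_left.trans hPN
  have hpair : IsControlPair (P : Subgroup G) Q' := by
    refine ⟨inf_le_left, fun x hx => mem_normalizer_inf' (le_normalizer hx) (hNX (hPN hx)),
      fun x hx => hQQ' (hQc (mem_inf.2 ⟨(mem_inf.1 hx).1, ?_⟩)), fun A g hA hAg => ?_⟩
    · exact centralizer_le (fun q hq => hQQ' hq) (mem_inf.1 hx).2
    obtain ⟨n, hn, hn'⟩ := hcon A g hA hAg
    obtain ⟨x, hx, y, hy, hyQ, hxy⟩ :=
      exists_frattini_factor P.2 hPN hidxN hNX (x := n) hn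
    have hx' : x ∈ ((Q' ⊔ R : Subgroup G) : Set G) := sup_comm R Q' ▸ hXR (mem_inf.1 hx).1
    rw [coe_mul_of_left_le_normalizer_right _ _ (hQ'N.trans hNR)] at hx'
    obtain ⟨q, hq, r, hr, rfl⟩ := hx'
    set N₀ := normalizer (Q' : Set G) with hN₀
    have hqy : q * y ∈ N := mul_mem (hQ'N hq) hy
    have hqyN₀ : q * y ∈ N₀ := mul_mem (le_normalizer hq) hyQ
    have hrec : (⟨n, hn⟩ : N) * (⟨q * y, hqy⟩ : N)⁻¹ ∈ Cfsg.pPrimeCore p N := by
      have h1 : n * (q * y)⁻¹ ∈ R := by
        have : n * (q * y)⁻¹ = q * r * q⁻¹ := by rw [← hxy]; group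
        rw [this]
        exact (mem_normalizer_iff.1 (hNR (hQ'N hq)) r).1 hr
      obtain ⟨w, hw, hw'⟩ := h1
      rwa [show (⟨n, hn⟩ : N) * (⟨q * y, hqy⟩ : N)⁻¹ = w from Subtype.ext hw'.symm]
    obtain ⟨m, hm, hm'⟩ := agreesIn_of_normal_compl PN (Cfsg.pPrimeCore p N) (N₀.subgroupOf N)
      PSolvable.pPrimeCore_not_dvd
      (fun z hz => mem_subgroupOf.2
        (mem_normalizer_inf' (le_normalizer hz) (hNX (hPN hz))))
      (A := N.subtype ⁻¹' A) (g := ⟨n, hn⟩) (y := ⟨q * y, hqy⟩)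
      (fun a ha => hA ha)
      (by
        rintro _ ⟨a, ha, rfl⟩
        show n⁻¹ * (a : G) * n ∈ (P : Subgroup G)
        rw [hn' (a : G) ha]
        exact hAg ⟨_, ha, rfl⟩)
      hqyN₀ hrec
    exact ⟨m, hm, fun a ha => (congrArg Subtype.val (hm' ⟨a, hPN (hA ha)⟩ ha)).trans (hn' a ha)⟩
  have hQeq : Q = Q' := eq_of_le_of_card_ge hQQ' (hmax Q' hpair)
  refine le_antisymm (hXle.trans (sup_le le_rfl ?_)) hMX
  rw [← hQeq]
  exact le_sup_left

theorem exists_isBest [Finite G] {P Q : Subgroup G} (h : IsControlPair P Q) :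
    ∃ Q₁ : Subgroup G, IsBest P Q₁ := by
  have : Nonempty {Q : Subgroup G // IsControlPair P Q} := ⟨⟨Q, h⟩⟩
  obtain ⟨Q₁, hQ₁⟩ := Finite.exists_max (fun Q : {Q : Subgroup G // IsControlPair P Q} => Nat.card Q.1)
  exact ⟨Q₁.1, Q₁.2, fun Q' hQ' => hQ₁ ⟨Q', hQ'⟩⟩

theorem IsBest.le [Finite G] {P : Sylow p G} {Q R : Subgroup G} (h : IsBest (P : Subgroup G) Q)
    (hR : R ≤ (P : Subgroup G)) (hRn : (P : Subgroup G) ≤ normalizer (R : Set G))
    (hcon : ∀ (A : Set G) (g : G), A ⊆ (P : Set G) →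
      (fun a => g⁻¹ * a * g) '' A ⊆ (P : Set G) → AgreesIn (normalizer (R : Set G)) g A) :
    R ≤ Q :=
  le_of_control P.2 hR hRn hcon h.1.le h.1.centric h.isRadical

theorem IsBest.unique [Finite G] {P : Sylow p G} {Q Q' : Subgroup G}
    (h : IsBest (P : Subgroup G) Q) (h' : IsBest (P : Subgroup G) Q') : Q = Q' :=
  le_antisymm (h'.le h.1.le h.1.norm h.1.control) (h.le h'.1.le h'.1.norm h'.1.control)

theorem IsControlPair.map {G' : Type*} [Group G'] (e : G ≃* G') {P Q : Subgroup G}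
    (h : IsControlPair P Q) : IsControlPair (P.map e.toMonoidHom) (Q.map e.toMonoidHom) := by
  refine ⟨map_mono h.le, (map_mono h.norm).trans (le_normalizer_map _), ?_, fun A g hA hAg => ?_⟩
  · rintro x hx
    obtain ⟨⟨a, ha, rfl⟩, hxc⟩ := mem_inf.1 hx
    refine mem_map_of_mem _ (h.centric (mem_inf.2 ⟨ha, mem_centralizer_iff.2 fun q hq => ?_⟩))
    apply e.injective
    rw [map_mul, map_mul]
    exact mem_centralizer_iff.1 hxc _ (mem_map_of_mem e.toMonoidHom hq)
  obtain ⟨n, hn, hn'⟩ := h.control (e ⁻¹' A) (e.symm g)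
    (fun a ha => by
      obtain ⟨b, hb, hbe⟩ := hA ha
      rwa [← e.injective hbe])
    (by
      rintro _ ⟨a, ha, rfl⟩
      obtain ⟨b, hb, hbe⟩ := hAg ⟨e a, ha, rfl⟩
      have : (e.symm g)⁻¹ * a * e.symm g = b := e.injective (by simpa using hbe.symm)
      show (e.symm g)⁻¹ * a * e.symm g ∈ P
      rw [this]
      exact hb)
  refine ⟨e n, le_normalizer_map _ (mem_map_of_mem e.toMonoidHom hn), fun a ha => ?_⟩
  have := congrArg e (hn' (e.symm a) (by simpa using ha))
  simpa using this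

/-! ### from a normal subgroup to the whole group -/

/-- A subgroup controlling fusion in a normal subgroup `D`, and normalised by `N(P ∩ D)`, controls
fusion in `P`. -/
theorem agreesIn_of_normal [Finite G] (P : Sylow p G) (D : Subgroup G) [D.Normal] (Q : Subgroup G)
    (hQ : Q ≤ (P : Subgroup G) ⊓ D)
    (hND : normalizer (((P : Subgroup G) ⊓ D : Subgroup G) : Set G) ≤ normalizer (Q : Set G))
    (hcon : ∀ (A : Set G) (g : G), g ∈ D → A ⊆ (((P : Subgroup G) ⊓ D : Subgroup G) : Set G) →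
      (fun a => g⁻¹ * a * g) '' A ⊆ (((P : Subgroup G) ⊓ D : Subgroup G) : Set G) →
      AgreesIn (D ⊓ normalizer (Q : Set G)) g A)
    {A : Set G} {g : G} (hA : A ⊆ (P : Set G))
    (hAg : (fun a => g⁻¹ * a * g) '' A ⊆ (P : Set G)) :
    AgreesIn (normalizer (Q : Set G)) g A := by
  classical
  refine agreesIn_of_steps' P hA hAg 0 (Nat.zero_le _) fun Q₁ hQ₁ _ => ?_
  induction hn : Nat.card (P : Subgroup G) -
      Nat.card ((P : Subgroup G) ⊓ (Q₁ : Subgroup G) : Subgroup G)
      using Nat.strong_induction_on generalizing Q₁ with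
  | _ n ih =>
  subst hn
  intro x hx
  set T := (P : Subgroup G) ⊓ (Q₁ : Subgroup G) with hT
  set N := normalizer (T : Set G) with hN
  have hTP : T ≤ (P : Subgroup G) := inf_le_left
  have hup : ∀ (V : Subgroup G) (y : G), V ≤ (P : Subgroup G) → ¬ V ≤ T → y ∈ N →
      y ∈ normalizer (V : Set G) → AgreesIn (normalizer (Q : Set G)) y (T : Set G) := by
    intro V y hV hVT hyN hyV
    have hUP : T ⊔ V ≤ (P : Subgroup G) := sup_le hTP hV
    refine AgreesIn.mono (agreesIn_of_steps' P (fun a ha => hUP ha)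
      ((image_subset_of_mem_normalizer (mem_normalizer_sup' hyN hyV)).trans fun a ha => hUP ha)
      (Nat.card (T ⊔ V : Subgroup G)) (le_of_eq (by rw [closure_eq])) fun Q₂ hQ₂ hk => ?_)
      (fun a ha => mem_sup_left ha)
    have h1 : Nat.card T < Nat.card (T ⊔ V : Subgroup G) :=
      Set.ncard_lt_ncard (left_lt_sup.2 hVT) (Set.toFinite _)
    have h2 := card_le_of_le (inf_le_left : (P : Subgroup G) ⊓ (Q₂ : Subgroup G) ≤ P)
    exact ih _ (by omega) Q₂ hQ₂ (Nat.zero_le _) rfl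
  set S := (P : Subgroup G) ⊓ N with hS
  have hSp : IsPGroup p S := P.2.to_le inf_le_left
  have hidxS : ¬ p ∣ S.relIndex N := hQ₁.1
  have hDN : N ≤ normalizer (D : Set G) := fun u _ => mem_normalizer_of_normal' D u
  obtain ⟨d, hd, y, hyN, hyS, hdy⟩ := exists_frattini_factor hSp inf_le_right hidxS hDN hx
  by_cases hSD : S ⊓ D ≤ T
  · -- then `P ∩ D ≤ T`
    refine ⟨x, hND ?_, fun _ _ => rfl⟩
    have h1 : (P : Subgroup G) ⊓ D ≤ T := le_of_inf_normalizer_le P.2 hTP inf_le_left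
      (fun t ht => FusionMod.le_normalizer_inf P D (hTP ht)) fun z hz => hSD (mem_inf.2
        ⟨mem_inf.2 ⟨(mem_inf.1 (mem_inf.1 hz).1).1, (mem_inf.1 hz).2⟩, (mem_inf.1 (mem_inf.1 hz).1).2⟩)
    have h2 : (P : Subgroup G) ⊓ D = T ⊓ D :=
      le_antisymm (le_inf h1 inf_le_right) (inf_le_inf_right _ hTP)
    rw [h2]
    exact mem_normalizer_inf' hx (mem_normalizer_of_normal' D x)
  have hyT := hup (S ⊓ D) y (inf_le_left.trans inf_le_left) hSD hyN hyS
  have hdT : AgreesIn (normalizer (Q : Set G)) d (T : Set G) := by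
    obtain ⟨hdD, hdN⟩ := mem_inf.1 hd
    set T₀ := T ⊓ D with hT₀
    have hT₀PD : T₀ ≤ (P : Subgroup G) ⊓ D := inf_le_inf_right _ hTP
    have hNT₀ : N ≤ normalizer (T₀ : Set G) := fun u hu =>
      mem_normalizer_inf' hu (mem_normalizer_of_normal' D u)
    set C₀ := D ⊓ centralizer (T₀ : Set G) with hC₀
    set S₀ := (Q ⊓ normalizer (T₀ : Set G)) ⊔ T₀ with hS₀
    set Y := S₀ ⊔ C₀ with hY
    have hS₀PD : S₀ ≤ (P : Subgroup G) ⊓ D := sup_le (inf_le_left.trans hQ) hT₀PD
    have hNC₀ : normalizer (T₀ : Set G) ≤ normalizer (C₀ : Set G) := fun u hu =>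
      mem_normalizer_inf' (mem_normalizer_of_normal' D u) (normalizer_le_normalizer_centralizer _ hu)
    have hS₀N : S₀ ≤ normalizer (T₀ : Set G) := sup_le inf_le_right le_normalizer
    have hYD : Y ≤ D := sup_le (hS₀PD.trans inf_le_right) inf_le_left
    set Dn := D ⊓ N with hDn
    have hDnY : Dn ≤ normalizer (Y : Set G) := by
      intro u hu
      obtain ⟨huD, huN⟩ := mem_inf.1 hu
      obtain ⟨m, hm, hm'⟩ := hcon T₀ u huD (fun a ha => hT₀PD ha)
        ((image_subset_of_mem_normalizer (hNT₀ huN)).trans fun a ha => hT₀PD ha)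
      have hmT₀ := mem_normalizer_of_agrees (hNT₀ huN) hm'
      have h1 : m ∈ normalizer (Y : Set G) := mem_normalizer_sup'
        (mem_normalizer_sup' (mem_normalizer_inf' (mem_inf.1 hm).2 (le_normalizer hmT₀)) hmT₀)
        (hNC₀ hmT₀)
      have h2 : u * m⁻¹ ∈ normalizer (Y : Set G) := le_normalizer (mem_sup_right (mem_inf.2
        ⟨mul_mem huD (inv_mem (mem_inf.1 hm).1), hm'.mul_inv_mem_centralizer⟩))
      simpa using mul_mem h2 h1
    set Xg := Y ⊓ N with hXg
    have hXgDn : Xg ≤ Dn := inf_le_inf_right _ hYD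
    have hDnX : Dn ≤ normalizer (Xg : Set G) := fun u hu =>
      mem_normalizer_inf' (hDnY hu) (le_normalizer (mem_inf.1 hu).2)
    set CT := D ⊓ centralizer (T : Set G) with hCT
    have hCTX : CT ≤ Xg := fun c hc => mem_inf.2
      ⟨mem_sup_right (mem_inf.2 ⟨(mem_inf.1 hc).1,
        centralizer_le (fun t ht => (mem_inf.1 ht).1) (mem_inf.1 hc).2⟩),
        centralizer_le_normalizer _ (mem_inf.1 hc).2⟩
    have hDnCT : Dn ≤ normalizer (CT : Set G) := fun u hu =>
      mem_normalizer_inf' (mem_normalizer_of_normal' D u)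
        (normalizer_le_normalizer_centralizer _ (mem_inf.1 hu).2)
    have hSD' : S ⊓ D ≤ Dn := le_inf inf_le_right (inf_le_left.trans inf_le_right)
    have hidxD : ¬ p ∣ (S ⊓ D).relIndex Dn := not_dvd_relIndex_inf hSp inf_le_right hidxS hDN
    have hXle : Xg ≤ CT ⊔ (S ⊓ D ⊓ Xg) := by
      refine le_sup_sylow_inf (hSp.to_le inf_le_left) hSD' hidxD hXgDn hDnX hCTX
        (hXgDn.trans hDnCT) fun a ha => ?_
      obtain ⟨haY, haN⟩ := mem_inf.1 ha
      obtain ⟨i, hi⟩ := exists_pow_mem_sup (P.2.to_le (hS₀PD.trans inf_le_left))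
        (hS₀N.trans hNC₀) haY
      set f := a ^ p ^ i with hf
      obtain ⟨hfD, hfC⟩ := mem_inf.1 hi
      have hfN : f ∈ N := pow_mem haN _
      obtain ⟨j, hj⟩ := exists_pow_mem_centralizer (p := p) (T := T)
        (P.2.to_le (hT₀PD.trans inf_le_left)) hfC fun t ht => mem_inf.2
          ⟨mul_mem (inv_mem ht) ((mem_normalizer_iff.1 hfN t).1 ht), by
            have h1 : t⁻¹ * f * t ∈ D := by
              simpa using (inferInstance : D.Normal).conj_mem f hfD t⁻¹
            have := mul_mem h1 (inv_mem hfD)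
            simpa [mul_assoc] using this⟩
      exact ⟨i + j, by rw [pow_add, pow_mul]; exact mem_inf.2 ⟨pow_mem hfD _, hj⟩⟩
    by_cases hSX : S ⊓ D ⊓ Xg ≤ T
    · have hQT : Q ≤ T := le_of_inf_normalizer_le P.2 hTP (hQ.trans inf_le_left)
        (fun t ht => hND (FusionMod.le_normalizer_inf P D (hTP ht))) fun z hz => by
          obtain ⟨hzQ, hzN⟩ := mem_inf.1 hz
          obtain ⟨hzP, hzD⟩ := mem_inf.1 (hQ hzQ)
          exact hSX (mem_inf.2 ⟨mem_inf.2 ⟨mem_inf.2 ⟨hzP, hzN⟩, hzD⟩, mem_inf.2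
            ⟨mem_sup_left (mem_sup_left (mem_inf.2 ⟨hzQ, hNT₀ hzN⟩)), hzN⟩⟩)
      obtain ⟨m, hm, hm'⟩ := hcon T₀ d hdD (fun a ha => hT₀PD ha)
        ((image_subset_of_mem_normalizer (hNT₀ hdN)).trans fun a ha => hT₀PD ha)
      refine ⟨d, mem_normalizer_of_agrees (mem_inf.1 hm).2 fun a ha => ?_, fun _ _ => rfl⟩
      exact (hm' a (mem_inf.2 ⟨hQT ha, (mem_inf.1 (hQ ha)).2⟩)).symm
    · obtain ⟨c', hc', d', hd', hd'S, hcd⟩ := exists_frattini_factor (hSp.to_le inf_le_left) hSD'
        hidxD hDnX hd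
      have hc'' : c' ∈ ((S ⊓ D ⊓ Xg ⊔ CT : Subgroup G) : Set G) :=
        sup_comm CT (S ⊓ D ⊓ Xg) ▸ hXle (mem_inf.1 hc').1
      rw [coe_mul_of_left_le_normalizer_right _ _ ((inf_le_right.trans hXgDn).trans hDnCT)] at hc''
      obtain ⟨s, hs, c, hc, rfl⟩ := hc''
      have hsN : s ∈ N := (mem_inf.1 (hXgDn (mem_inf.1 hs).2)).2
      obtain ⟨m, hm, hm'⟩ := hup (S ⊓ D ⊓ Xg) (s * d')
        (inf_le_left.trans (inf_le_left.trans inf_le_left)) hSX (mul_mem hsN (mem_inf.1 hd').2)
        (mul_mem (le_normalizer hs) hd'S)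
      refine ⟨m, hm, fun t ht => (hm' t ht).trans ?_⟩
      have hst : s⁻¹ * t * s ∈ T := (mem_normalizer_iff''.1 hsN t).1 ht
      rw [← hcd]
      calc (s * d')⁻¹ * t * (s * d') = d'⁻¹ * (c⁻¹ * (c * (s⁻¹ * t * s))) * d' := by group
        _ = d'⁻¹ * (c⁻¹ * ((s⁻¹ * t * s) * c)) * d' := by
          rw [mem_centralizer_iff.1 (mem_inf.1 hc).2 _ hst]
        _ = _ := by group
  have := AgreesIn.comp hdT (hyT.mono (image_subset_of_mem_normalizer (mem_inf.1 hd).2))
  rwa [hdy] at this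

/-! ### existence -/

/-- In a stable class some subgroup forms a control pair. -/
theorem exists_isControlPair (hp : p ≠ 2) (Cl : StableClass.{u} p) (G : Type u) [Group G]
    [Finite G] (hfree : Cl.mem G) :
    ∀ P : Sylow p G, ∃ Q : Subgroup G, IsControlPair (P : Subgroup G) Q := by
  induction hn : Nat.card G using Nat.strong_induction_on generalizing G with
  | _ n ih =>
  subst hn
  intro P
  have IH : ∀ M : Subgroup G, M ≠ ⊤ → ∀ S : Sylow p M, ∃ Q : Subgroup M,
      IsControlPair (S : Subgroup M) Q := fun M hM =>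
    ih _ (lt_of_le_of_ne (card_le_card_group M) fun he => hM (eq_top_of_card_eq _ he)) M
      (Cl.sub M hfree) rfl
  set H := Cfsg.pCore p G with hH
  have hHn : H.Normal := inferInstance
  have hHP : H ≤ (P : Subgroup G) := PSolvable.pCore_le_sylow P
  by_cases hc : (P : Subgroup G) ⊓ centralizer (H : Set G) ≤ H
  · refine ⟨H, hHP, fun x _ => mem_normalizer_of_normal' H x, hc, fun A g _ _ =>
      ⟨g, mem_normalizer_of_normal' H g, fun _ _ => rfl⟩⟩
  set M := zjNormalizer p (P : Subgroup G) with hM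
  have hPM : (P : Subgroup G) ≤ M := le_zjNormalizer _
  by_cases hMt : M ≠ ⊤
  · -- through the proper subgroup `N(Z(J(P)))`
    obtain ⟨Q, hQ⟩ := IH M hMt (P.subtype hPM)
    have hPc : ((P.subtype hPM : Sylow p M) : Subgroup M) = (P : Subgroup G).subgroupOf M := rfl
    rw [hPc] at hQ
    refine ⟨Q.map M.subtype, ?_, ?_, ?_, fun A g hA hAg => ?_⟩
    · exact (map_mono hQ.le).trans (map_subgroupOf_eq_of_le hPM).le
    · exact (map_subgroupOf_eq_of_le hPM).ge.trans ((map_mono hQ.norm).trans (le_normalizer_map _))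
    · intro x hx
      refine mem_map_of_mem M.subtype (x := ⟨x, hPM (mem_inf.1 hx).1⟩) (hQ.centric (mem_inf.2
        ⟨(mem_inf.1 hx).1, mem_centralizer_iff.2 fun q hq => Subtype.ext ?_⟩))
      exact mem_centralizer_iff.1 (mem_inf.1 hx).2 _ (mem_map_of_mem M.subtype hq)
    obtain ⟨m, hm, hm'⟩ := controls_of_stableClass hp Cl G hfree P A g hA hAg
    obtain ⟨n, hn, hn'⟩ := hQ.control (M.subtype ⁻¹' A) ⟨m, hm⟩ (fun a ha => hA ha) (by
      rintro _ ⟨a, ha, rfl⟩
      show m⁻¹ * (a : G) * m ∈ (P : Subgroup G)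
      rw [hm' (a : G) ha]
      exact hAg ⟨_, ha, rfl⟩)
    exact ⟨n, le_normalizer_map _ (mem_map_of_mem M.subtype hn), fun a ha =>
      (congrArg Subtype.val (hn' ⟨a, hPM (hA ha)⟩ ha)).trans (hm' a ha)⟩
  push_neg at hMt
  have hH1 : H ≠ ⊥ := by
    intro h
    have h2 : Cfsg.centerThompsonOf p (P : Subgroup G) = ⊥ := le_bot_iff.1 (h ▸ PSolvable.le_pCore
      (hN := normalizer_eq_top_iff.1 hMt) (P.2.to_le (OddStability.centerThompsonOf_le _)))
    refine center_ne_bot (P.2.to_le (Thompson.thompsonSubgroupOf_le p _))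
      (Thompson.thompsonSubgroupOf_ne_bot (P.2.card_eq_or_dvd.resolve_left fun h3 => hc ?_)) h2
    rw [eq_bot_of_card_eq _ h3, bot_inf_eq]
    exact bot_le
  set C := centralizer (H : Set G) with hC
  by_cases hD : H ⊔ C = ⊤
  · -- through `G/H`
    set π := QuotientGroup.mk' H with hπ
    have hπs : Function.Surjective π := QuotientGroup.mk'_surjective H
    set Pb : Sylow p (G ⧸ H) := P.mapSurjective hπs
    have hPbc : (Pb : Subgroup (G ⧸ H)) = (P : Subgroup G).map π := rfl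
    have hlt : Nat.card (G ⧸ H) < Nat.card G := by
      show H.index < _
      rw [← H.card_mul_index]
      exact lt_mul_of_one_lt_left (Nat.pos_of_ne_zero index_ne_zero_of_finite)
        (Finite.one_lt_card_iff_nontrivial.2 ((nontrivial_iff_ne_bot _).2 hH1))
    obtain ⟨Qb, hQb⟩ := ih _ hlt (G ⧸ H) (Cl.quot H (Or.inl PSolvable.pCore_isPGroup) hfree) rfl Pb
    rw [hPbc] at hQb
    set Q := Qb.comap π with hQ
    have hQP : Q ≤ (P : Subgroup G) := by
      refine (comap_mono hQb.le).trans ?_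
      rw [comap_map_eq, QuotientGroup.ker_mk', sup_eq_left.2 hHP]
    have hNQ : normalizer (Q : Set G) = (normalizer (Qb : Set (G ⧸ H))).comap π :=
      (comap_normalizer_eq_of_surjective _ hπs).symm
    have hPQ : (P : Subgroup G) ≤ normalizer (Q : Set G) := fun x hx => by
      rw [hNQ]; exact mem_comap.2 (hQb.norm (mem_map_of_mem π hx))
    refine ⟨Q, hQP, hPQ, fun x hx => mem_comap.2 (hQb.centric (mem_inf.2
      ⟨mem_map_of_mem π (mem_inf.1 hx).1, mem_centralizer_iff.2 fun q hq => ?_⟩)),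
      fun A g hA hAg => agreesIn_of_steps' P hA hAg 0 (Nat.zero_le _) fun Q₁ hQ₁ _ x hx => ?_⟩
    · obtain ⟨z, rfl⟩ := hπs q
      rw [← map_mul, ← map_mul, mem_centralizer_iff.1 (mem_inf.1 hx).2 z (mem_comap.2 hq)]
    set T := (P : Subgroup G) ⊓ (Q₁ : Subgroup G) with hT
    set N := normalizer (T : Set G) with hN
    have hTP : T ≤ (P : Subgroup G) := inf_le_left
    have hHT : H ≤ T := le_inf hHP (PSolvable.pCore_le_sylow Q₁)
    obtain ⟨nb, hnb, hnb'⟩ := hQb.control (π '' (T : Set G)) (π x)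
      (by rintro _ ⟨a, ha, rfl⟩; exact mem_map_of_mem π (hTP ha))
      (by
        rintro _ ⟨_, ⟨a, ha, rfl⟩, rfl⟩
        show (π x)⁻¹ * π a * π x ∈ (P : Subgroup G).map π
        rw [← map_inv, ← map_mul, ← map_mul]
        exact mem_map_of_mem π (hTP (image_subset_of_mem_normalizer hx ⟨a, ha, rfl⟩)))
    obtain ⟨n, rfl⟩ := hπs nb
    have hnT : ∀ t ∈ T, (n⁻¹ * t * n) * (x⁻¹ * t * x)⁻¹ ∈ H := by
      intro t ht
      have := hnb' (π t) ⟨t, ht, rfl⟩
      rw [← QuotientGroup.eq_one_iff, ← QuotientGroup.mk'_apply, ← hπ]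
      simp only [map_mul, map_inv]
      rw [this, mul_inv_cancel]
    have hnN : n ∈ N := by
      refine Fusion4.mem_normalizer_of_rc_eq (eq_of_le_of_card_ge ?_ (card_rc n T).ge)
      rintro _ ⟨t, ht, rfl⟩
      have h2 := mul_mem (hHT (hnT t ht))
        (image_subset_of_mem_normalizer hx ⟨t, ht, rfl⟩ : x⁻¹ * t * x ∈ T)
      rw [inv_mul_cancel_right] at h2
      simpa using h2
    set E := (centralizer ((T.map π : Subgroup (G ⧸ H)) : Set (G ⧸ H))).comap π ⊓ N with hE
    have hNE : N ≤ normalizer (E : Set G) := fun u hu => mem_normalizer_inf'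
      (le_normalizer_comap π (mem_comap.2 (normalizer_le_normalizer_centralizer _
        (le_normalizer_map π (mem_map_of_mem π hu))))) (le_normalizer hu)
    have hCTE : centralizer (T : Set G) ≤ E := by
      refine fun c hc => mem_inf.2 ⟨mem_comap.2 (mem_centralizer_iff.2 ?_),
        centralizer_le_normalizer _ hc⟩
      rintro _ ⟨t, ht, rfl⟩
      rw [← map_mul, ← map_mul, mem_centralizer_iff.1 hc t ht]
    have hle : E ≤ centralizer (T : Set G) ⊔ ((P : Subgroup G) ⊓ N ⊓ E) := by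
      refine le_sup_sylow_inf (P.2.to_le inf_le_left) inf_le_right hQ₁.1 inf_le_right hNE hCTE
        (inf_le_right.trans (normalizer_le_normalizer_centralizer _)) fun a ha => ?_
      obtain ⟨i, hi⟩ := exists_pow_mem_sup (PSolvable.pCore_isPGroup (p := p) (G := G))
        (fun u _ => mem_normalizer_of_normal' C u) (show a ∈ H ⊔ C by rw [hD]; exact mem_top a)
      obtain ⟨j, hj⟩ := exists_pow_mem_centralizer (p := p) (T := T)
        (PSolvable.pCore_isPGroup (p := p) (G := G)) hi fun t ht => by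
          have hfD : π (a ^ p ^ i) ∈ centralizer ((T.map π : Subgroup (G ⧸ H)) : Set (G ⧸ H)) := by
            rw [map_pow]; exact pow_mem (mem_comap.1 (mem_inf.1 ha).1) _
          rw [← QuotientGroup.eq_one_iff, ← QuotientGroup.mk'_apply, ← hπ]
          simp only [map_mul, map_inv]
          rw [← mem_centralizer_iff.1 hfD _ (mem_map_of_mem π ht)]
          group
      exact ⟨i + j, by rw [pow_add, pow_mul]; exact hj⟩
    have he : x * n⁻¹ ∈ E := by
      refine mem_inf.2 ⟨mem_comap.2 ?_, mul_mem hx (inv_mem hnN)⟩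
      rw [map_mul, map_inv]
      refine Agrees.mul_inv_mem_centralizer ?_
      rintro _ ⟨t, ht, rfl⟩
      exact hnb' _ ⟨t, ht, rfl⟩
    have he' : x * n⁻¹ ∈ (((P : Subgroup G) ⊓ N ⊓ E ⊔ centralizer (T : Set G) : Subgroup G) : Set G) :=
      sup_comm (centralizer (T : Set G)) ((P : Subgroup G) ⊓ N ⊓ E) ▸ hle he
    rw [coe_mul_of_left_le_normalizer_right _ _ ((inf_le_left.trans inf_le_right).trans
      (normalizer_le_normalizer_centralizer _))] at he'
    obtain ⟨s, hs, c, hcT, hsc⟩ := he'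
    obtain ⟨hsP, hsN⟩ := mem_inf.1 (mem_inf.1 hs).1
    refine ⟨s * n, mul_mem (hPQ hsP) (hNQ ▸ mem_comap.2 hnb), fun t ht => ?_⟩
    have hst : s⁻¹ * t * s ∈ T := (mem_normalizer_iff''.1 hsN t).1 ht
    have hxsc : x = s * c * n := by
      rw [show s * c = x * n⁻¹ from hsc, inv_mul_cancel_right]
    calc (s * n)⁻¹ * t * (s * n) = n⁻¹ * (c⁻¹ * (c * (s⁻¹ * t * s))) * n := by group
      _ = n⁻¹ * (c⁻¹ * ((s⁻¹ * t * s) * c)) * n := by rw [mem_centralizer_iff.1 hcT _ hst]
      _ = x⁻¹ * t * x := by rw [hxsc]; group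
  · -- through `D = H C(H)`
    set D := H ⊔ C with hDdef
    set PD : Sylow p D := FusionMod.sylowInf P D
    have hPDm : (PD : Subgroup D).map D.subtype = (P : Subgroup G) ⊓ D := FusionMod.map_sylowInf P D
    have hPDc : ∀ z : D, z ∈ (PD : Subgroup D) ↔ (z : G) ∈ (P : Subgroup G) := fun z =>
      ⟨fun h => (mem_inf.1 (mem_subgroupOf.1 h)).1, fun h => mem_subgroupOf.2 (mem_inf.2 ⟨h, z.2⟩)⟩
    obtain ⟨Q₀, hQ₀⟩ := IH D hD PD
    obtain ⟨Qd, hQd⟩ := exists_isBest hQ₀
    set Q := Qd.map D.subtype with hQ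
    have hQPD : Q ≤ (P : Subgroup G) ⊓ D := hPDm ▸ map_mono hQd.1.le
    have hND : normalizer (((P : Subgroup G) ⊓ D : Subgroup G) : Set G) ≤
        normalizer (Q : Set G) := by
      intro u hu
      set e : D ≃* D := MulAut.conjNormal u with he
      have hPDe : (PD : Subgroup D).map e.toMonoidHom = PD := by
        refine eq_of_le_of_card_ge ?_ (card_map_of_injective e.injective).ge
        rintro _ ⟨z, hz, rfl⟩
        have hz' := (hPDc z).1 hz
        refine (hPDc _).2 ?_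
        show (MulAut.conjNormal u z : G) ∈ _
        rw [MulAut.conjNormal_apply]
        exact (mem_inf.1 ((mem_normalizer_iff.1 hu z).1 (mem_inf.2 ⟨hz', z.2⟩))).1
      have hbest : IsBest (PD : Subgroup D) (Qd.map e.toMonoidHom) := by
        refine ⟨hPDe ▸ hQd.1.map e, fun Q' hQ' => (hQd.2 Q' hQ').trans ?_⟩
        exact (card_map_of_injective e.injective).ge
      have heq := hbest.unique hQd
      refine Fusion4.mem_normalizer_of_rc_eq ?_
      ext z
      rw [mem_rc, hQ]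
      constructor
      · rintro ⟨w, hw, hwz⟩
        rw [← heq] at hw
        obtain ⟨v, hv, rfl⟩ := hw
        refine ⟨v, hv, ?_⟩
        have h1 : u * (v : G) * u⁻¹ = u * z * u⁻¹ := by
          rw [← hwz]
          exact (MulAut.conjNormal_apply u v).symm
        simpa using h1
      · rintro ⟨w, hw, rfl⟩
        refine ⟨e w, heq ▸ mem_map_of_mem e.toMonoidHom hw, ?_⟩
        exact MulAut.conjNormal_apply u w
    have hHQ : H ≤ Q := by
      have hHD : H ≤ D := le_sup_left
      have hn' : normalizer ((H.subgroupOf D : Subgroup D) : Set D) = ⊤ :=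
        normalizer_eq_top_iff.2 inferInstance
      have h1 : H.subgroupOf D ≤ Qd := hQd.le (fun z hz => (hPDc z).2 (hHP hz))
        (by rw [hn']; exact le_top) fun A g _ _ => ⟨g, by rw [hn']; exact mem_top g, fun _ _ => rfl⟩
      exact (map_subgroupOf_eq_of_le hHD).ge.trans (map_mono h1)
    refine ⟨Q, hQPD.trans inf_le_left, (FusionMod.le_normalizer_inf P D).trans hND,
      fun x hx => ?_, fun A g hA hAg => agreesIn_of_normal P D Q hQPD hND ?_ hA hAg⟩
    · have hxD : x ∈ D := mem_sup_right (centralizer_le (fun z hz => hHQ hz) (mem_inf.1 hx).2)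
      refine mem_map_of_mem D.subtype (x := ⟨x, hxD⟩) (hQd.1.centric (mem_inf.2
        ⟨(hPDc _).2 (mem_inf.1 hx).1, mem_centralizer_iff.2 fun q hq => Subtype.ext ?_⟩))
      exact mem_centralizer_iff.1 (mem_inf.1 hx).2 _ (mem_map_of_mem D.subtype hq)
    · intro A g hg hA hAg
      obtain ⟨n, hn, hn'⟩ := hQd.1.control (D.subtype ⁻¹' A) ⟨g, hg⟩
        (fun a ha => (hPDc a).2 (mem_inf.1 (hA ha)).1)
        (by rintro _ ⟨a, ha, rfl⟩; exact (hPDc _).2 (mem_inf.1 (hAg ⟨_, ha, rfl⟩)).1)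
      exact ⟨n, mem_inf.2 ⟨n.2, le_normalizer_map _ (mem_map_of_mem D.subtype hn)⟩, fun a ha =>
        congrArg Subtype.val (hn' ⟨a, (mem_inf.1 (hA ha)).2⟩ ha)⟩

/-- The canonical controlling centric radical subgroup. -/
theorem exists_centric_control (hp : p ≠ 2) (Cl : StableClass.{u} p) [Finite G] (hfree : Cl.mem G)
    (P : Sylow p G) :
    ∃ Q : Subgroup G, IsControlPair (P : Subgroup G) Q ∧ IsRadical p Q := by
  obtain ⟨Q₀, hQ₀⟩ := exists_isControlPair hp Cl G hfree P
  obtain ⟨Q, hQ⟩ := exists_isBest hQ₀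
  exact ⟨Q, hQ.1, hQ.isRadical⟩

end Cfsg.Agent.Lib.ThompsonNPC
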