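import Mathlib
import Cfsg.Agent.Lib.ThompsonNPC.ZJControl
import Cfsg.Agent.Lib.ZJ.Involve
/-!
Groups in which no `N(Q)/C(Q)`, `Q` a `p`-subgroup, has a section `SL₂(p)`.
-/

set_option autoImplicit false

namespace Cfsg.Agent.Lib.ThompsonNPC

open Subgroup
open Cfsg.Agent.Lib
open scoped commutatorElement IsMulCommutative

universe u

variable {p : ℕ} [Fact p.Prime]

/-- No `N(Q)/C(Q)`, `Q` a `p`-subgroup, has a section `SL₂(p)`. -/
def SL2AutFree (p : ℕ) (G : Type*) [Group G] : Prop :=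
  ∀ Q : Subgroup G, IsPGroup p Q → ∀ (H : Subgroup G)
    (f : H →* Matrix.SpecialLinearGroup (Fin 2) (ZMod p)), Function.Surjective f →
    H ≤ normalizer (Q : Set G) → (∀ h : H, (h : G) ∈ centralizer (Q : Set G) → f h = 1) → False

/-- The form in which the hypothesis is usually stated. -/
theorem sl2AutFree_of_no_section {G : Type*} [Group G]
    (hfree : ∀ Q : Subgroup G, IsPGroup p ↥Q → ¬ ∃ (H K : Subgroup G) (_ : (K.subgroupOf H).Normal),
      centralizer (Q : Set G) ≤ K ∧ K ≤ H ∧ H ≤ normalizer (Q : Set G) ∧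
      Nonempty ((↥H ⧸ K.subgroupOf H) ≃* Matrix.SpecialLinearGroup (Fin 2) (ZMod p))) :
    SL2AutFree p G := by
  intro Q hQ H f hf hHN hfC
  set N := normalizer (Q : Set G) with hN
  set C := (centralizer (Q : Set G)).subgroupOf N with hC
  have hCn : C.Normal := by
    refine ⟨fun c hc g => ?_⟩
    rw [hC, mem_subgroupOf] at hc ⊢
    exact (mem_normalizer_iff.1 (normalizer_le_normalizer_centralizer Q g.2) c).1 hc
  set π := QuotientGroup.mk' C with hπ
  -- the image of `H` in `N(Q)/C(Q)`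
  set q : H →* N ⧸ C := π.comp (inclusion hHN) with hq
  have hker : q.ker ≤ f.ker := fun h hh => by
    rw [MonoidHom.mem_ker, hq, MonoidHom.comp_apply] at hh
    exact hfC h (mem_subgroupOf.1 ((QuotientGroup.eq_one_iff (N := C) (inclusion hHN h)).1 hh))
  let fb : q.range →* Matrix.SpecialLinearGroup (Fin 2) (ZMod p) :=
    (QuotientGroup.lift q.ker f hker).comp (QuotientGroup.quotientKerEquivRange q).symm.toMonoidHom
  have hfb : Function.Surjective fb := by
    intro x
    obtain ⟨h, rfl⟩ := hf x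
    refine ⟨QuotientGroup.quotientKerEquivRange q (QuotientGroup.mk h), ?_⟩
    show QuotientGroup.lift q.ker f hker ((QuotientGroup.quotientKerEquivRange q).symm _) = _
    rw [MulEquiv.symm_apply_apply]
    rfl
  set H₁ : Subgroup N := q.range.comap π with hH₁
  let f₁ : H₁ →* Matrix.SpecialLinearGroup (Fin 2) (ZMod p) := fb.comp (π.subgroupComap q.range)
  have hf₁ : Function.Surjective f₁ := hfb.comp
    (π.subgroupComap_surjective_of_surjective _ (QuotientGroup.mk'_surjective C))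
  let e := H₁.equivMapOfInjective N.subtype N.subtype_injective
  let F : (H₁.map N.subtype : Subgroup G) →* Matrix.SpecialLinearGroup (Fin 2) (ZMod p) :=
    f₁.comp e.symm.toMonoidHom
  have hF : Function.Surjective F := hf₁.comp (MulEquiv.surjective _)
  have heq : (F.ker.map (H₁.map N.subtype).subtype).subgroupOf (H₁.map N.subtype) = F.ker :=
    comap_map_eq_self_of_injective (subtype_injective _) _
  have hn : ((F.ker.map (H₁.map N.subtype).subtype).subgroupOf (H₁.map N.subtype)).Normal := by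
    rw [heq]; infer_instance
  refine hfree Q hQ ⟨H₁.map N.subtype, F.ker.map (H₁.map N.subtype).subtype,
    hn, ?_, map_subtype_le _, map_subtype_le _,
    ⟨(QuotientGroup.quotientMulEquivOfEq heq).trans
      (QuotientGroup.quotientKerEquivOfSurjective F hF)⟩⟩
  intro c hc
  have hcN : c ∈ N := centralizer_le_normalizer _ hc
  have hc1 : π ⟨c, hcN⟩ = 1 := (QuotientGroup.eq_one_iff _).2 (mem_subgroupOf.2 hc)
  have hcH₁ : (⟨c, hcN⟩ : N) ∈ H₁ := by
    rw [hH₁, mem_comap, hc1]; exact one_mem _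
  refine ⟨⟨c, ⟨c, hcN⟩, hcH₁, rfl⟩, MonoidHom.mem_ker.2 ?_, rfl⟩
  have h1 : e.symm ⟨c, ⟨c, hcN⟩, hcH₁, rfl⟩ = ⟨⟨c, hcN⟩, hcH₁⟩ := by
    rw [MulEquiv.symm_apply_eq]; exact Subtype.ext rfl
  have h2 : π.subgroupComap q.range ⟨⟨c, hcN⟩, hcH₁⟩ = 1 := Subtype.ext hc1
  show fb (π.subgroupComap q.range (e.symm ⟨c, ⟨c, hcN⟩, hcH₁, rfl⟩)) = 1
  rw [h1, h2, map_one]

variable {G : Type u} [Group G] [Finite G]

theorem sl2AutFree_subgroup (M : Subgroup G) (h : SL2AutFree p G) : SL2AutFree p M := by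
  intro Q hQ H f hf hHN hfC
  let e := H.equivMapOfInjective M.subtype M.subtype_injective
  refine h (Q.map M.subtype) (hQ.map _) (H.map M.subtype) (f.comp e.symm.toMonoidHom)
    (hf.comp (MulEquiv.surjective _)) ((map_mono hHN).trans (le_normalizer_map _)) ?_
  rintro ⟨_, x, hx, rfl⟩ hxc
  have h1 : e.symm ⟨M.subtype x, x, hx, rfl⟩ = ⟨x, hx⟩ := by
    rw [MulEquiv.symm_apply_eq]; exact Subtype.ext rfl
  show f (e.symm ⟨M.subtype x, x, hx, rfl⟩) = 1
  rw [h1]
  refine hfC _ (mem_centralizer_iff.2 fun t ht => Subtype.ext ?_)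
  exact mem_centralizer_iff.1 hxc _ (mem_map_of_mem M.subtype ht)

theorem sl2AutFree_quotient (N : Subgroup G) [N.Normal]
    (hN : IsPGroup p N ∨ ¬ p ∣ Nat.card N) (h : SL2AutFree p G) : SL2AutFree p (G ⧸ N) := by
  intro Q hQ H f hf hHN hfC
  set π := QuotientGroup.mk' N with hπ
  have hπs : Function.Surjective π := QuotientGroup.mk'_surjective N
  have hcent : ∀ (Q₀ : Subgroup G), Q₀.map π = Q → ∀ c ∈ centralizer (Q₀ : Set G),
      π c ∈ centralizer (Q : Set (G ⧸ N)) := by
    rintro Q₀ rfl c hc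
    refine mem_centralizer_iff.2 ?_
    rintro _ ⟨t, ht, rfl⟩
    rw [← map_mul, ← map_mul, mem_centralizer_iff.1 hc t ht]
  rcases hN with hp | hp'
  · -- `N` a `p`-group
    refine h (Q.comap π) (hQ.comap_of_ker_isPGroup π (by rwa [QuotientGroup.ker_mk']))
      (H.comap π) (f.comp (π.subgroupComap H))
      (hf.comp (π.subgroupComap_surjective_of_surjective H hπs)) ?_ ?_
    · rw [← comap_normalizer_eq_of_surjective _ hπs]
      exact comap_mono hHN
    · exact fun x hx => hfC _ (hcent _ (map_comap_eq_self_of_surjective hπs Q) _ hx)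
  · -- `N` of order prime to `p`
    obtain ⟨Q₀, hQ₀p, hQ₀⟩ : ∃ Q₀ : Subgroup G, IsPGroup p Q₀ ∧ Q₀.map π = Q := by
      obtain ⟨S⟩ : Nonempty (Sylow p (Q.comap π)) := inferInstance
      refine ⟨(S : Subgroup (Q.comap π)).map (Q.comap π).subtype, S.2.map _, ?_⟩
      have hs := π.subgroupComap_surjective_of_surjective Q hπs
      have h1 : ((S.mapSurjective hs : Sylow p Q) : Subgroup Q) = ⊤ :=
        ((S.mapSurjective hs).is_maximal' (hQ.of_equiv Subgroup.topEquiv.symm) le_top).symm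
      refine le_antisymm ?_ fun x hx => ?_
      · rintro _ ⟨_, ⟨s, _, rfl⟩, rfl⟩; exact s.2
      · have h2 : (⟨x, hx⟩ : Q) ∈ ((S.mapSurjective hs : Sylow p Q) : Subgroup Q) := h1 ▸ mem_top _
        obtain ⟨s, hs', hsx⟩ := h2
        exact ⟨s, mem_map_of_mem _ hs', congrArg Subtype.val hsx⟩
    have hNQ : normalizer (Q : Set (G ⧸ N)) ≤ (normalizer (Q₀ : Set G)).map π :=
      hQ₀ ▸ normalizer_map_le π hπs (by rwa [QuotientGroup.ker_mk']) hQ₀p
    let g : (H.comap π ⊓ normalizer (Q₀ : Set G) : Subgroup G) →* H :=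
      (π.subgroupComap H).comp (inclusion inf_le_left)
    have hg : Function.Surjective g := by
      rintro ⟨x, hx⟩
      obtain ⟨y, hy, hyx⟩ := hNQ (hHN hx)
      exact ⟨⟨y, mem_inf.2 ⟨mem_comap.2 (hyx ▸ hx), hy⟩⟩, Subtype.ext hyx⟩
    refine h Q₀ hQ₀p _ (f.comp g) (hf.comp hg) inf_le_right ?_
    exact fun x hx => hfC _ (hcent _ hQ₀ _ hx)

theorem isStableAt_of_sl2AutFree (hp : p ≠ 2) (h : SL2AutFree p G) (S : Subgroup G) :
    IsStableAt p S := by
  intro P hPn hPp A hAc _ hPA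
  rintro _ ⟨a, ha, rfl⟩
  by_contra hna
  have hq : ∀ x ∈ P, a * ⁅x, a⁆ = ⁅x, a⁆ * a := by
    intro x hx
    have hmem : ⁅x, a⁆ ∈ A := by
      rw [commutatorElement_def]
      exact mul_mem ((mem_normalizer_iff.1 (hPA hx) a).1 ha) (inv_mem ha)
    exact congrArg Subtype.val (mul_comm' (⟨a, ha⟩ : A) ⟨_, hmem⟩)
  obtain ⟨W, hWn, V, hVn, -, hVP, hV, -, -, hO, haV, hqV⟩ :=
    ZJ.exists_chiefFactor P hPp hq hna
  have : IsMulCommutative V := hV.1
  have hM : ∀ v : Additive V, p • v = 0 := fun v => by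
    apply Additive.toMul.injective
    apply Subtype.ext
    rw [toMul_nsmul, SubgroupClass.coe_pow, toMul_zero, OneMemClass.coe_one]
    exact hV.2 _ (Additive.toMul v : V).2
  obtain ⟨ρ, hinj, -, hu⟩ := ZJ.exists_faithful_action V (QuotientGroup.mk' W a) hqV
  obtain ⟨A', B', hn', ⟨e⟩⟩ := ZJ.exists_sl2_section hp hM ρ hinj hu
    (fun h' => haV ((QuotientGroup.eq_one_iff _).1 (by rwa [hO, mem_bot] at h')))
  set π := (QuotientGroup.mk' (centralizer (V : Set (G ⧸ W)))).comp (QuotientGroup.mk' W) with hπ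
  have hπs : Function.Surjective π :=
    (QuotientGroup.mk'_surjective _).comp (QuotientGroup.mk'_surjective _)
  let F : (A'.comap π : Subgroup G) →* Matrix.SpecialLinearGroup (Fin 2) (ZMod p) :=
    (e.toMonoidHom.comp (QuotientGroup.mk' (B'.subgroupOf A'))).comp (π.subgroupComap A')
  refine h P hPp (A'.comap π) F ?_ ?_ fun c hc => ?_
  · exact (e.surjective.comp (QuotientGroup.mk'_surjective _)).comp
      (π.subgroupComap_surjective_of_surjective A' hπs)
  · rw [normalizer_eq_top_iff.2 hPn]; exact le_top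
  · have h1 : π (c : G) = 1 := by
      refine (QuotientGroup.eq_one_iff _).2 (mem_centralizer_iff.2 fun v hv => ?_)
      obtain ⟨t, ht, rfl⟩ := hVP hv
      rw [← map_mul, ← map_mul, mem_centralizer_iff.1 hc t ht]
    have h2 : π.subgroupComap A' c = 1 := Subtype.ext h1
    show e (QuotientGroup.mk' (B'.subgroupOf A') (π.subgroupComap A' c)) = 1
    rw [h2, map_one, map_one]

/-- The class. -/
def sl2AutFreeClass (hp : p ≠ 2) : StableClass.{u} p where
  mem G _ := SL2AutFree p G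
  sub M h := sl2AutFree_subgroup M h
  quot N _ hN h := sl2AutFree_quotient N hN h
  stable h S := isStableAt_of_sl2AutFree hp h S

end Cfsg.Agent.Lib.ThompsonNPC
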